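import Groth.Agent.Lefpen.H727.Compact
import Mathlib.AlgebraicGeometry.Scheme

/-!
# The open subscheme of affine space attached to a Zariski open set with irreducible complement
-/

set_option autoImplicit false
universe u

open CategoryTheory AlgebraicGeometry Limits TopologicalSpace Opposite MvPolynomial

namespace Groth.Agent.Lefpen.H712.UnivOpen

open LefPen Groth.Agent.Lefpen.H727.Compact

variable (k : Type u) [Field k] {V : Type u} [AddCommGroup V] [Module k V] {ι : Type} [Fintype ι]

/-- The `k`-point of affine space with coordinates `c`. -/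
noncomputable abbrev pt (c : ι → k) :
    Spec (CommRingCat.of k) ⟶ Spec (CommRingCat.of (MvPolynomial ι k)) :=
  Spec.map (CommRingCat.ofHom (MvPolynomial.eval c))

variable {k}

/-- The ideal of polynomials vanishing on the complement of `Tr`. -/
def vanIdeal (B : Module.Basis ι k V) (Tr : Set V) : Ideal (MvPolynomial ι k) where
  carrier := {P | ∀ v, v ∉ Tr → eval (B.equivFun v) P = 0}
  zero_mem' := fun v _ => map_zero _
  add_mem' := fun {a b} ha hb v hv => by rw [map_add, ha v hv, hb v hv, add_zero]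
  smul_mem' := fun a b hb v hv => by rw [smul_eq_mul, map_mul, hb v hv, mul_zero]

theorem mem_vanIdeal (B : Module.Basis ι k V) (Tr : Set V) (P : MvPolynomial ι k) :
    P ∈ vanIdeal B Tr ↔ ∀ v, v ∉ Tr → eval (B.equivFun v) P = 0 := Iff.rfl

theorem isPolyFun_eval (B : Module.Basis ι k V) (P : MvPolynomial ι k) :
    IsPolyFun k (fun v => eval (B.equivFun v) P) := by
  have h := isPolyFun_ev B P
  refine (funext fun v => ?_ : (fun v => ev B v P) = _) ▸ h
  rfl

theorem exists_eval (B : Module.Basis ι k V) {f : V → k} (hf : IsPolyFun k f) :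
    ∃ P : MvPolynomial ι k, ∀ v, f v = eval (B.equivFun v) P := by
  obtain ⟨P, hP⟩ := exists_ev B hf
  exact ⟨P, fun v => (hP v).trans rfl⟩

theorem isPrime_vanIdeal (B : Module.Basis ι k V) (Tr : Set V)
    (hirr : ∀ f g : V → k, IsPolyFun k f → IsPolyFun k g → (∀ H, H ∉ Tr → f H * g H = 0) →
      (∀ H, H ∉ Tr → f H = 0) ∨ (∀ H, H ∉ Tr → g H = 0)) (hne : ∃ H, H ∉ Tr) :
    (vanIdeal B Tr).IsPrime where
  ne_top' := by
    obtain ⟨H, hH⟩ := hne
    rw [Ideal.ne_top_iff_one]
    intro h
    have := h H hH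
    rw [map_one] at this
    exact one_ne_zero this
  mem_or_mem' := by
    intro P Q hPQ
    refine hirr _ _ (isPolyFun_eval B P) (isPolyFun_eval B Q) fun v hv => ?_
    rw [← map_mul]
    exact hPQ v hv

theorem exists_opens (B : Module.Basis ι k V) (Tr : Set V) (ho : IsZOpen k Tr)
    (hirr : ∀ f g : V → k, IsPolyFun k f → IsPolyFun k g → (∀ H, H ∉ Tr → f H * g H = 0) →
      (∀ H, H ∉ Tr → f H = 0) ∨ (∀ H, H ∉ Tr → g H = 0)) (hne : ∃ H, H ∉ Tr) :
    ∃ U : (Spec (CommRingCat.of (MvPolynomial ι k))).Opens,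
      IsIrreducible ((U : Set (Spec (CommRingCat.of (MvPolynomial ι k))))ᶜ) ∧
        ∀ c : ι → k, (pt k c) default ∈ U ↔ ∑ a, c a • B a ∈ Tr := by
  have hp := isPrime_vanIdeal B Tr hirr hne
  refine ⟨⟨(PrimeSpectrum.zeroLocus (vanIdeal B Tr : Set (MvPolynomial ι k)))ᶜ,
    (PrimeSpectrum.isClosed_zeroLocus _).isOpen_compl⟩, ?_, fun c => ?_⟩
  · change IsIrreducible ((PrimeSpectrum.zeroLocus (vanIdeal B Tr : Set (MvPolynomial ι k)))ᶜᶜ)
    rw [compl_compl]
    exact (PrimeSpectrum.isIrreducible_zeroLocus_iff_of_radical _ hp.isRadical).2 hp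
  · have hc : B.equivFun (∑ a, c a • B a) = c :=
      (B.equivFun.symm_apply_eq.1 (B.equivFun_symm_apply c)).symm
    have h0 : ((pt k c) default).asIdeal = RingHom.ker (MvPolynomial.eval c) := by
      have h1 : ((pt k c) default).asIdeal =
        Ideal.comap (MvPolynomial.eval c) (default : Spec (CommRingCat.of k)).asIdeal := rfl
      have h2 : (default : Spec (CommRingCat.of k)).asIdeal = ⊥ := by
        have := (default : Spec (CommRingCat.of k)).isPrime
        exact (Ideal.eq_bot_or_top _).resolve_right this.ne_top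
      rw [h1, h2]
      rfl
    change ¬ ((vanIdeal B Tr : Set (MvPolynomial ι k)) ⊆ ((pt k c) default).asIdeal) ↔ _
    rw [h0]
    constructor
    · intro h
      by_contra h1
      refine h fun P hP => ?_
      have := hP _ h1
      rw [hc] at this
      exact this
    · intro h h1
      obtain ⟨f, hf, hf0, hf1⟩ := ho _ h
      obtain ⟨P, hP⟩ := exists_eval B hf
      have h2 : P ∈ vanIdeal B Tr := by
        intro v hv
        rw [← hP]
        by_contra h3
        exact hv (hf1 v h3)
      have h3 : eval c P = 0 := h1 h2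
      rw [hP, hc] at hf0
      exact hf0 h3

end Groth.Agent.Lefpen.H712.UnivOpen
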