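import Groth.Agent.Lefpen.H712.Fam
import Groth.Agent.Lefpen.H712.UnivOpen
import Mathlib.Algebra.Polynomial.Laurent

/-!
# The universal family of hypersurface sections

`B` a basis of a space of forms, `S = Spec k[X_a]`, `univ i B : Fam → S` the family `{∑ a, X_a B_a = 0}`.

* `exists_scaling`: over `S × G_m` the pullbacks along the scaling action and the projection are isomorphic.
* `spec_pb`: coefficients of the pullback along `Spec A → S`.
-/

set_option autoImplicit false
universe u

open CategoryTheory AlgebraicGeometry Limits TopologicalSpace Opposite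

namespace Groth.Agent.Lefpen.H712.Univ

open LefPen Groth.Agent.Lefpen.H879.Lin Groth.Agent.Lefpen.H712.FamB

theorem exists_iso_of_eq {W : Scheme.{u}} {I J : W.IdealSheafData} (h : I = J) :
    ∃ e : I.subscheme ≅ J.subscheme, e.hom ≫ J.subschemeι = I.subschemeι := by
  subst h
  exact ⟨Iso.refl _, Category.id_comp _⟩

/-- Functions on `Spec A` from elements of `A`. -/
noncomputable abbrev gam {A : Type u} [CommRing A] {ι : Type*} (x : ι → A) :
    ι → Γ(Spec (CommRingCat.of A), ⊤) :=
  fun a => (Scheme.ΓSpecIso (CommRingCat.of A)).inv.hom (x a)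

theorem pb_gam {A A' : Type u} [CommRing A] [CommRing A'] {ι : Type*} (x : ι → A) (h : A →+* A') :
    pb (Spec.map (CommRingCat.ofHom h)) (gam x) = gam (fun a => h (x a)) := by
  funext a
  have h1 := Scheme.ΓSpecIso_inv_naturality (CommRingCat.ofHom h)
  exact (congrArg (fun t => t.hom (x a)) h1).symm

section

variable {r : ℕ} {k : Type u} [Field k] {d : ℕ} {X : Scheme.{u}} (i : X ⟶ CohB1.ProjSpace r k)
  {T : Scheme.{u}} (b : T ⟶ Spec (CommRingCat.of k)) {ι : Type*} [Fintype ι] (G : ι → Form r k d)

/-- Multiplying all the coefficients by a unit. -/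
theorem idl_smul (γ γ' : ι → Γ(T, ⊤)) (v : Γ(T, ⊤)) (hv : IsUnit v) (h : ∀ a, γ' a = v * γ a) :
    idl i b γ' G = idl i b γ G := by
  unfold idl
  rw [← linIdeal_smul _ (fun a => (pullback.snd (i ≫ CohB1.ProjSpace.toSpec r k) b).appTop.hom (γ a)) G
    ((pullback.snd (i ≫ CohB1.ProjSpace.toSpec r k) b).appTop.hom v) (hv.map _)]
  refine linIdeal_congr G rfl ?_
  funext a
  rw [h, map_mul]

/-- Isomorphism of the families with proportional coefficients. -/
theorem exists_fam_iso (γ γ' : ι → Γ(T, ⊤)) (h : idl i b γ' G = idl i b γ G) :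
    ∃ e : Fam i b γ' G ≅ Fam i b γ G, e.hom ≫ fam i b γ G = fam i b γ' G ∧
      e.hom ≫ famX i b γ G = famX i b γ' G := by
  obtain ⟨e, he⟩ := exists_iso_of_eq h
  refine ⟨e, ?_, ?_⟩
  · unfold fam; rw [← Category.assoc, he]
  · unfold famX; rw [← Category.assoc, he]

end

section

variable {r : ℕ} {k : Type u} [Field k] {d : ℕ} {X : Scheme.{u}} (i : X ⟶ CohB1.ProjSpace r k)
  {ι : Type} [Fintype ι] (B : ι → Form r k d)

/-- The structure morphism of affine space. -/
noncomputable abbrev bS (k : Type u) [Field k] (ι : Type) :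
    Spec (CommRingCat.of (MvPolynomial ι k)) ⟶ Spec (CommRingCat.of k) :=
  Spec.map (CommRingCat.ofHom (MvPolynomial.C : k →+* MvPolynomial ι k))

/-- The universal family. -/
noncomputable def univ : Fam i (bS k ι) (gam (fun a : ι => (MvPolynomial.X a : MvPolynomial ι k))) B ⟶
    Spec (CommRingCat.of (MvPolynomial ι k)) :=
  fam i (bS k ι) (gam (fun a : ι => (MvPolynomial.X a : MvPolynomial ι k))) B

instance isProper_univ [IsProper (i ≫ CohB1.ProjSpace.toSpec r k)] : IsProper (univ i B) := by
  unfold univ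
  infer_instance

theorem isPullback_univ {A : Type u} [CommRing A] (h : MvPolynomial ι k →+* A)
    (b' : Spec (CommRingCat.of A) ⟶ Spec (CommRingCat.of k))
    (hb : Spec.map (CommRingCat.ofHom h) ≫ bS k ι = b') (x : ι → A) (hx : ∀ a, h (MvPolynomial.X a) = x a) :
    ∃ m : Fam i b' (gam x) B ⟶ Fam i (bS k ι) (gam (fun a : ι => (MvPolynomial.X a : MvPolynomial ι k))) B,
      IsPullback m (fam i b' (gam x) B) (univ i B) (Spec.map (CommRingCat.ofHom h)) ∧
        m ≫ famX i _ _ B = famX i _ _ B := by
  have e : gam x = pb (Spec.map (CommRingCat.ofHom h))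
      (gam (fun a : ι => (MvPolynomial.X a : MvPolynomial ι k))) := by
    rw [pb_gam]
    exact congrArg gam (funext fun a => (hx a).symm)
  rw [e]
  exact ⟨famMap i _ B (Spec.map (CommRingCat.ofHom h)) hb, isPullback_famMap _ _ _ _ _,
    famMap_famX _ _ _ _ _⟩

/-- The scaling homomorphism `X_a ↦ λ X_a`. -/
noncomputable def scaleHom (k : Type u) [Field k] (σ : Type) :
    MvPolynomial σ k →+* LaurentPolynomial (MvPolynomial σ k) :=
  MvPolynomial.eval₂Hom (LaurentPolynomial.C.comp MvPolynomial.C)
    (fun i : σ => LaurentPolynomial.T 1 * LaurentPolynomial.C (MvPolynomial.X i))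

/-- **Scaling invariance of the universal family.** -/
theorem exists_scaling :
    ∃ e : pullback (univ i B) (Spec.map (CommRingCat.ofHom (scaleHom k ι))) ≅
        pullback (univ i B) (Spec.map (CommRingCat.ofHom
          (LaurentPolynomial.C : MvPolynomial ι k →+* LaurentPolynomial (MvPolynomial ι k)))),
      e.hom ≫ pullback.snd _ _ = pullback.snd _ _ := by
  let b' : Spec (CommRingCat.of (LaurentPolynomial (MvPolynomial ι k))) ⟶ Spec (CommRingCat.of k) :=
    Spec.map (CommRingCat.ofHom ((LaurentPolynomial.C :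
      MvPolynomial ι k →+* LaurentPolynomial (MvPolynomial ι k)).comp MvPolynomial.C))
  obtain ⟨m1, h1, -⟩ := isPullback_univ i B (scaleHom k ι) b'
    (by rw [← Spec.map_comp, ← CommRingCat.ofHom_comp]
        congr 2
        ext x
        simp [scaleHom])
    (fun a => LaurentPolynomial.T 1 * LaurentPolynomial.C (MvPolynomial.X a))
    (fun a => by simp [scaleHom])
  obtain ⟨m2, h2, -⟩ := isPullback_univ i B (LaurentPolynomial.C :
      MvPolynomial ι k →+* LaurentPolynomial (MvPolynomial ι k)) b'
    (by rw [← Spec.map_comp, ← CommRingCat.ofHom_comp])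
    (fun a => LaurentPolynomial.C (MvPolynomial.X a)) (fun a => rfl)
  have hu : IsUnit (LaurentPolynomial.T 1 : LaurentPolynomial (MvPolynomial ι k)) :=
    LaurentPolynomial.isUnit_T 1
  obtain ⟨e, he, -⟩ := exists_fam_iso i b' B
    (gam (fun a => LaurentPolynomial.C (MvPolynomial.X a)))
    (gam (fun a => LaurentPolynomial.T 1 * LaurentPolynomial.C (MvPolynomial.X a)))
    (idl_smul i b' B _ _ ((Scheme.ΓSpecIso (CommRingCat.of _)).inv.hom (LaurentPolynomial.T 1))
      (hu.map _) (fun a => map_mul _ _ _))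
  refine ⟨h1.isoPullback.symm ≪≫ e ≪≫ h2.isoPullback, ?_⟩
  rw [Iso.trans_hom, Iso.trans_hom, Category.assoc, Category.assoc, h2.isoPullback_hom_snd, he]
  exact h1.isoPullback_inv_snd

end

end Groth.Agent.Lefpen.H712.Univ
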