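import Groth.Agent.Etcore.RpushLoc

/-!
# Cohomology of the base changes of a morphism `f : X ⟶ Y`

For `F : EtCoh.Ab X` and `t : T ⟶ Y`, `HT f F t n` is `H^n(X ×_Y T, F)`, functorial in `T` over `Y`
(`rs`), with `rs_rs`, `rs_congr`, `rs_id`.
-/

set_option autoImplicit false
universe u
open CategoryTheory CategoryTheory.Limits AlgebraicGeometry Opposite Abelian
open scoped Groth.Agent.Etcore.EtInst
open Groth.Agent.Etcore.EtInst Groth.Agent.Etcore.HQ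

namespace Groth.Agent.Lefpen.H712.HT

variable {X Y : Scheme.{u}} (f : X ⟶ Y) (F : EtCoh.Ab X)

/-- The cohomology of `X ×_Y T`. -/
noncomputable abbrev HT {T : Scheme.{u}} (t : T ⟶ Y) (n : ℕ) : Type (u + 1) :=
  HQ F (pullback.fst f t) n

/-- The base changed morphism. -/
noncomputable def bm {T T' : Scheme.{u}} {t : T ⟶ Y} {t' : T' ⟶ Y} (φ : T' ⟶ T) (h : φ ≫ t = t') :
    pullback f t' ⟶ pullback f t :=
  pullback.lift (pullback.fst f t') (pullback.snd f t' ≫ φ)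
    (by rw [Category.assoc, h, pullback.condition])

theorem bm_fst {T T' : Scheme.{u}} {t : T ⟶ Y} {t' : T' ⟶ Y} (φ : T' ⟶ T) (h : φ ≫ t = t') :
    bm f φ h ≫ pullback.fst f t = pullback.fst f t' := pullback.lift_fst _ _ _

theorem bm_snd {T T' : Scheme.{u}} {t : T ⟶ Y} {t' : T' ⟶ Y} (φ : T' ⟶ T) (h : φ ≫ t = t') :
    bm f φ h ≫ pullback.snd f t = pullback.snd f t' ≫ φ := pullback.lift_snd _ _ _

theorem bm_bm {T T' T'' : Scheme.{u}} {t : T ⟶ Y} {t' : T' ⟶ Y} {t'' : T'' ⟶ Y} (φ : T' ⟶ T)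
    (h : φ ≫ t = t') (ψ : T'' ⟶ T') (h' : ψ ≫ t' = t'') (χ : T'' ⟶ T) (e : ψ ≫ φ = χ)
    (h'' : χ ≫ t = t'') : bm f ψ h' ≫ bm f φ h = bm f χ h'' := by
  apply pullback.hom_ext
  · rw [Category.assoc, bm_fst, bm_fst, bm_fst]
  · rw [Category.assoc, bm_snd, ← Category.assoc, bm_snd, Category.assoc, e, bm_snd]

theorem bm_id {T : Scheme.{u}} (t : T ⟶ Y) : bm f (𝟙 T) (Category.id_comp t) = 𝟙 _ := by
  apply pullback.hom_ext
  · rw [bm_fst, Category.id_comp]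
  · rw [bm_snd, Category.comp_id, Category.id_comp]

/-- Pullback of classes. -/
noncomputable def rs {T T' : Scheme.{u}} {t : T ⟶ Y} {t' : T' ⟶ Y} (φ : T' ⟶ T) (h : φ ≫ t = t')
    (n : ℕ) : HT f F t n →+ HT f F t' n :=
  res F (bm f φ h) (bm_fst f φ h) n

theorem rs_rs {T T' T'' : Scheme.{u}} {t : T ⟶ Y} {t' : T' ⟶ Y} {t'' : T'' ⟶ Y} (φ : T' ⟶ T)
    (h : φ ≫ t = t') (ψ : T'' ⟶ T') (h' : ψ ≫ t' = t'') (χ : T'' ⟶ T) (e : ψ ≫ φ = χ)
    (h'' : χ ≫ t = t'') (n : ℕ) (x : HT f F t n) :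
    rs f F ψ h' n (rs f F φ h n x) = rs f F χ h'' n x :=
  res_res F _ _ _ _ _ (bm_bm f φ h ψ h' χ e h'') _ n x

theorem rs_congr {T T' : Scheme.{u}} {t : T ⟶ Y} {t' : T' ⟶ Y} {φ φ' : T' ⟶ T} (e : φ = φ')
    (h : φ ≫ t = t') (h' : φ' ≫ t = t') (n : ℕ) (x : HT f F t n) :
    rs f F φ h n x = rs f F φ' h' n x := by
  subst e; rfl

end Groth.Agent.Lefpen.H712.HT
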