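import Groth.Agent.Etcore.HpullCalc
import Groth.Prelude.Def_LefMon

/-!
# Compatibility of the pullback with the reductions (with the short instances)
-/

set_option autoImplicit false
universe u

open CategoryTheory CategoryTheory.Limits AlgebraicGeometry Opposite
open scoped Groth.Agent.Etcore.EtInst
open Groth.Agent.Etcore.EtInst Groth.Agent.Etcore.HpullCalc

namespace Groth.Agent.Lefpen.H712.HredH

theorem pullConst_red {X Y : Scheme.{u}} (ℓ ν : ℕ) (f : Y ⟶ X) :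
    (EtCoh.pull f).map (EtAdic.red X ℓ ν) ≫ (EtCore.pullConst f (ZMod (ℓ ^ ν))).hom =
      (EtCore.pullConst f (ZMod (ℓ ^ (ν + 1)))).hom ≫ EtAdic.red Y ℓ ν :=
  (EtCore.pullConstIso f).hom.naturality _

theorem red_hp {X Y : Scheme.{u}} (ℓ : ℕ) (f : Y ⟶ X) [PreservesFiniteLimits (EtCoh.pull f)]
    (i ν : ℕ) (x : HH X (EtCoh.const X (ZMod (ℓ ^ (ν + 1)))) i) :
    HHmap (EtAdic.red Y ℓ ν) i (HHmap (EtCore.pullConst f (ZMod (ℓ ^ (ν + 1)))).hom i
      (hp f (EtCoh.const X (ZMod (ℓ ^ (ν + 1)))) i x)) =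
    HHmap (EtCore.pullConst f (ZMod (ℓ ^ ν))).hom i
      (hp f (EtCoh.const X (ZMod (ℓ ^ ν))) i (HHmap (EtAdic.red X ℓ ν) i x)) := by
  rw [hp_map, ← HHmap_comp, ← HHmap_comp, pullConst_red]

end Groth.Agent.Lefpen.H712.HredH
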