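import Groth.Agent.Lefpen.H879.Lin

/-!
# Families of hypersurface sections over a base `T`

`i : X ⟶ P^r_k`, `b : T ⟶ Spec k`, functions `γ a` on `T` and forms `G a`: the closed subscheme
`Fam = {∑ a, γ a * G a = 0}` of `X ×_k T`, with its projection `fam : Fam ⟶ T`.

* `isPullback_fam`: base change along `φ : T' ⟶ T`;
* `isProper_fam`;
* `famConst`: over `T = Spec k` it is the section of `X` by `∑ a, c a • G a`.
-/

set_option autoImplicit false
universe u

open CategoryTheory AlgebraicGeometry Limits TopologicalSpace Opposite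

namespace Groth.Agent.Lefpen.H712.FamB

open LefPen Groth.Agent.Lefpen.H879.Lin

variable {r : ℕ} {k : Type u} [Field k] {d : ℕ} {X : Scheme.{u}} (i : X ⟶ CohB1.ProjSpace r k)
  {T T' T'' : Scheme.{u}} (b : T ⟶ Spec (CommRingCat.of k)) {ι : Type*} [Fintype ι]
  (γ : ι → Γ(T, ⊤)) (G : ι → Form r k d)

/-- `X ×_k T` -/
noncomputable abbrev WW : Scheme.{u} := pullback (i ≫ CohB1.ProjSpace.toSpec r k) b

/-- The projection of `X ×_k T` to projective space. -/
noncomputable abbrev pW : WW i b ⟶ CohB1.ProjSpace r k :=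
  pullback.fst (i ≫ CohB1.ProjSpace.toSpec r k) b ≫ i

/-- The ideal of the family. -/
noncomputable def idl : (WW i b).IdealSheafData :=
  linIdeal (pW i b) (fun a => (pullback.snd (i ≫ CohB1.ProjSpace.toSpec r k) b).appTop.hom (γ a)) G

/-- The total space of the family. -/
noncomputable abbrev Fam : Scheme.{u} := (idl i b γ G).subscheme

/-- The projection to the base. -/
noncomputable def fam : Fam i b γ G ⟶ T :=
  (idl i b γ G).subschemeι ≫ pullback.snd (i ≫ CohB1.ProjSpace.toSpec r k) b

/-- The projection to `X`. -/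
noncomputable def famX : Fam i b γ G ⟶ X :=
  (idl i b γ G).subschemeι ≫ pullback.fst (i ≫ CohB1.ProjSpace.toSpec r k) b

theorem fam_w : famX i b γ G ≫ (i ≫ CohB1.ProjSpace.toSpec r k) = fam i b γ G ≫ b := by
  unfold famX fam
  rw [Category.assoc, pullback.condition, Category.assoc]

instance isProper_fam [IsProper (i ≫ CohB1.ProjSpace.toSpec r k)] : IsProper (fam i b γ G) := by
  unfold fam
  infer_instance

section

variable {b} {b' : T' ⟶ Spec (CommRingCat.of k)} (φ : T' ⟶ T) (h : φ ≫ b = b')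

/-- Base change of `X ×_k T`. -/
noncomputable def wmap : WW i b' ⟶ WW i b :=
  pullback.lift (pullback.fst _ _) (pullback.snd _ _ ≫ φ)
    (by rw [Category.assoc, h, pullback.condition])

theorem wmap_fst : wmap i φ h ≫ pullback.fst _ _ = pullback.fst _ _ := pullback.lift_fst _ _ _

theorem wmap_snd : wmap i φ h ≫ pullback.snd _ _ = pullback.snd _ _ ≫ φ := pullback.lift_snd _ _ _

theorem isPullback_wmap : IsPullback (wmap i φ h) (pullback.snd _ b') (pullback.snd _ b) φ := by
  have h1 : IsPullback (pullback.fst (i ≫ CohB1.ProjSpace.toSpec r k) b) (pullback.snd _ b)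
    (i ≫ CohB1.ProjSpace.toSpec r k) b := IsPullback.of_hasPullback _ _
  have h2 : IsPullback (wmap i φ h ≫ pullback.fst (i ≫ CohB1.ProjSpace.toSpec r k) b)
      (pullback.snd (i ≫ CohB1.ProjSpace.toSpec r k) b') (i ≫ CohB1.ProjSpace.toSpec r k) (φ ≫ b) := by
    rw [wmap_fst, h]
    exact IsPullback.of_hasPullback _ _
  exact IsPullback.of_right h2 (wmap_snd i φ h) h1

/-- The coefficients pulled back to `T'`. -/
noncomputable abbrev pb (γ : ι → Γ(T, ⊤)) : ι → Γ(T', ⊤) := fun a => φ.appTop.hom (γ a)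

theorem linIdeal_congr {W : Scheme.{u}} {p p' : W ⟶ CohB1.ProjSpace r k} (hp : p = p')
    {δ δ' : ι → Γ(W, ⊤)} (hδ : δ = δ') : linIdeal p δ G = linIdeal p' δ' G := by
  subst hp hδ; rfl

theorem comap_idl : (idl i b γ G).comap (wmap i φ h) = idl i b' (pb φ γ) G := by
  unfold idl
  rw [comap_linIdeal]
  refine linIdeal_congr G ?_ ?_
  · rw [← Category.assoc, wmap_fst]
  · funext a
    have h1 : (wmap i φ h ≫ pullback.snd (i ≫ CohB1.ProjSpace.toSpec r k) b).appTop =
      (pullback.snd (i ≫ CohB1.ProjSpace.toSpec r k) b' ≫ φ).appTop := by rw [wmap_snd]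
    rw [Scheme.Hom.comp_appTop, Scheme.Hom.comp_appTop] at h1
    exact congrArg (fun t => t.hom (γ a)) h1

omit [Field k] [Fintype ι] in
theorem exists_map {W W' : Scheme.{u}} (f : W' ⟶ W) (I : W.IdealSheafData) (J : W'.IdealSheafData)
    (hJ : I.comap f = J) :
    ∃ m : J.subscheme ⟶ I.subscheme, IsPullback m J.subschemeι I.subschemeι f := by
  subst hJ
  refine ⟨(I.comapIso f).hom ≫ pullback.snd _ _, ?_⟩
  refine IsPullback.of_iso_pullback ⟨?_⟩ (I.comapIso f ≪≫ pullbackSymmetry _ _) ?_ ?_
  · rw [Category.assoc, ← pullback.condition, ← Category.assoc,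
      Scheme.IdealSheafData.comapIso_hom_fst]
  · simp
  · simp

/-- The base change map of the families. -/
noncomputable def famMap : Fam i b' (pb φ γ) G ⟶ Fam i b γ G :=
  (exists_map (wmap i φ h) _ _ (comap_idl i γ G φ h)).choose

theorem isPullback_famMap' : IsPullback (famMap i γ G φ h) (idl i b' (pb φ γ) G).subschemeι
    (idl i b γ G).subschemeι (wmap i φ h) :=
  (exists_map (wmap i φ h) _ _ (comap_idl i γ G φ h)).choose_spec

/-- **Base change of the family.** -/
theorem isPullback_famMap :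
    IsPullback (famMap i γ G φ h) (fam i b' (pb φ γ) G) (fam i b γ G) φ :=
  (isPullback_famMap' i γ G φ h).paste_vert (isPullback_wmap i φ h)

theorem famMap_fam : famMap i γ G φ h ≫ fam i b γ G = fam i b' (pb φ γ) G ≫ φ :=
  (isPullback_famMap i γ G φ h).w

theorem famMap_famX : famMap i γ G φ h ≫ famX i b γ G = famX i b' (pb φ γ) G := by
  unfold famX
  rw [← Category.assoc, (isPullback_famMap' i γ G φ h).w, Category.assoc, wmap_fst]

end

/-! ### Fibres over rational points -/

section

open Groth.Agent.Lefpen.H727.Compact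

variable (e : Spec (CommRingCat.of k) ⟶ T) (he : e ≫ b = 𝟙 _)

/-- The embedding of `X` as the fibre of `X ×_k T` at a rational point. -/
noncomputable def fibX : X ⟶ WW i b :=
  pullback.lift (𝟙 X) (i ≫ CohB1.ProjSpace.toSpec r k ≫ e)
    (by rw [Category.id_comp, Category.assoc, Category.assoc, he, Category.comp_id])

theorem fibX_fst : fibX i b e he ≫ pullback.fst _ _ = 𝟙 X := pullback.lift_fst _ _ _

theorem fibX_snd : fibX i b e he ≫ pullback.snd _ _ = (i ≫ CohB1.ProjSpace.toSpec r k) ≫ e := by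
  rw [Category.assoc]
  exact pullback.lift_snd _ _ _

theorem isPullback_fibX : IsPullback (fibX i b e he) (i ≫ CohB1.ProjSpace.toSpec r k)
    (pullback.snd (i ≫ CohB1.ProjSpace.toSpec r k) b) e := by
  have h1 : IsPullback (pullback.fst (i ≫ CohB1.ProjSpace.toSpec r k) b) (pullback.snd _ b)
    (i ≫ CohB1.ProjSpace.toSpec r k) b := IsPullback.of_hasPullback _ _
  have h2 : IsPullback (fibX i b e he ≫ pullback.fst (i ≫ CohB1.ProjSpace.toSpec r k) b)
      (i ≫ CohB1.ProjSpace.toSpec r k) (i ≫ CohB1.ProjSpace.toSpec r k) (e ≫ b) := by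
    rw [fibX_fst, he]
    exact IsPullback.of_horiz_isIso ⟨by rw [Category.id_comp, Category.comp_id]⟩
  exact IsPullback.of_right h2 (fibX_snd i b e he) h1

theorem comap_idl_fibX (c : ι → k)
    (hc : ∀ a, e.appTop.hom (γ a) = (Scheme.ΓSpecIso (CommRingCat.of k)).inv.hom (c a)) :
    (idl i b γ G).comap (fibX i b e he) = secIdeal i {∑ a, c a • G a} := by
  rw [← linIdeal_const']
  unfold idl
  rw [comap_linIdeal]
  refine linIdeal_congr G ?_ ?_
  · rw [← Category.assoc, fibX_fst, Category.id_comp]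
  · funext a
    have h1 : (fibX i b e he ≫ pullback.snd (i ≫ CohB1.ProjSpace.toSpec r k) b).appTop =
      ((i ≫ CohB1.ProjSpace.toSpec r k) ≫ e).appTop := by rw [fibX_snd]
    rw [Scheme.Hom.comp_appTop, Scheme.Hom.comp_appTop] at h1
    refine (congrArg (fun t => t.hom (γ a)) h1).trans ?_
    rw [CommRingCat.comp_apply, hc]
    unfold cst cstHom
    have h2 : X.presheaf.map (homOfLE (le_top : (⊤ : X.Opens) ≤ ⊤)).op = 𝟙 _ :=
      X.presheaf.map_id _
    rw [h2, Category.comp_id, CommRingCat.comp_apply]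

include he in
/-- **The fibre of the family over a rational point** is a hypersurface section of `X`. -/
theorem exists_fibre (c : ι → k)
    (hc : ∀ a, e.appTop.hom (γ a) = (Scheme.ΓSpecIso (CommRingCat.of k)).inv.hom (c a)) :
    ∃ m : Sec i {∑ a, c a • G a} ⟶ Fam i b γ G,
      IsPullback m (secToSpec i {∑ a, c a • G a}) (fam i b γ G) e ∧
        m ≫ famX i b γ G = secι i {∑ a, c a • G a} := by
  obtain ⟨m, hm⟩ := exists_map (fibX i b e he) _ _ (comap_idl_fibX i b γ G e he c hc)
  refine ⟨m, hm.paste_vert (isPullback_fibX i b e he), ?_⟩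
  unfold famX
  rw [← Category.assoc, hm.w, Category.assoc, fibX_fst, Category.comp_id]

end

end Groth.Agent.Lefpen.H712.FamB
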