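import Groth.Prelude.Def_LefMon

/-!
# Rationally trivial actions: transport to other models of the cohomology groups
-/

set_option autoImplicit false
universe u w

open CategoryTheory CategoryTheory.Limits AlgebraicGeometry Opposite

namespace Groth.Agent.Lefpen.H712.ActsQ0

theorem mem_abs {A : ℕ → Type w} [∀ ν, AddCommGroup (A ν)] (d : ∀ ν, A (ν + 1) →+ A ν)
    (x : ∀ ν, A ν) :
    x ∈ (⨅ ν : ℕ, ((d ν).comp (Pi.evalAddMonoidHom (fun μ => A μ) (ν + 1)) -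
      Pi.evalAddMonoidHom (fun μ => A μ) ν).ker) ↔ ∀ ν, d ν (x (ν + 1)) = x ν := by
  rw [AddSubgroup.mem_iInf]
  refine forall_congr' fun ν => ?_
  rw [AddMonoidHom.mem_ker, AddMonoidHom.sub_apply, sub_eq_zero]
  rfl

theorem mem_Hl (X : Scheme.{u}) (ℓ i : ℕ) (x : ∀ ν : ℕ, EtAdic.Hmod X ℓ i ν)
    (h : ∀ ν, EtAdic.Hred X ℓ i ν (x (ν + 1)) = x ν) : x ∈ EtAdic.Hl X ℓ i :=
  (mem_abs (fun ν => EtAdic.Hred X ℓ i ν) x).2 h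

/-- Transport of a rationally trivial action, abstract part. -/
theorem transport_abs {A B : ℕ → Type w} [∀ ν, AddCommGroup (A ν)] [∀ ν, AddCommGroup (B ν)]
    (e : ∀ ν, A ν ≃+ B ν) (dA : ∀ ν, A (ν + 1) →+ A ν) (dB : ∀ ν, B (ν + 1) →+ B ν)
    (hd : ∀ ν x, e ν (dA ν x) = dB ν (e (ν + 1) x)) (φ : ∀ ν, A ν →+ A ν) (ψ : ∀ ν, B ν →+ B ν)
    (hφ : ∀ ν x, e ν (φ ν x) = ψ ν (e ν x))
    (h : ∀ x : ∀ ν, A ν, (∀ ν, dA ν (x (ν + 1)) = x ν) →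
      ∃ N : ℕ, 0 < N ∧ ∀ ν, N • (φ ν (x ν) - x ν) = 0) (x : ∀ ν, B ν)
    (hx : ∀ ν, dB ν (x (ν + 1)) = x ν) :
    ∃ N : ℕ, 0 < N ∧ ∀ ν, N • (ψ ν (x ν) - x ν) = 0 := by
  obtain ⟨N, hN, hN'⟩ := h (fun ν => (e ν).symm (x ν)) (fun ν => by
    apply (e ν).injective
    rw [hd, AddEquiv.apply_symm_apply, AddEquiv.apply_symm_apply, hx])
  refine ⟨N, hN, fun ν => ?_⟩
  have h1 := congrArg (e ν) (hN' ν)
  rw [map_nsmul, map_sub, hφ, AddEquiv.apply_symm_apply, map_zero] at h1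
  exact h1

/-- A rationally trivial action in another model. -/
theorem transport {X : Scheme.{u}} (ℓ i : ℕ) (φ : ∀ ν, EtAdic.Hmod X ℓ i ν →+ EtAdic.Hmod X ℓ i ν)
    (h : EtAdic.ActsTriviallyQ ℓ φ) {B : ℕ → Type (u + 1)} [∀ ν, AddCommGroup (B ν)]
    (e : ∀ ν, EtAdic.Hmod X ℓ i ν ≃+ B ν) (dB : ∀ ν, B (ν + 1) →+ B ν)
    (hd : ∀ ν x, e ν (EtAdic.Hred X ℓ i ν x) = dB ν (e (ν + 1) x)) (ψ : ∀ ν, B ν →+ B ν)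
    (hφ : ∀ ν x, e ν (φ ν x) = ψ ν (e ν x)) (x : ∀ ν, B ν) (hx : ∀ ν, dB ν (x (ν + 1)) = x ν) :
    ∃ N : ℕ, 0 < N ∧ ∀ ν, N • (ψ ν (x ν) - x ν) = 0 :=
  transport_abs e (fun ν => EtAdic.Hred X ℓ i ν) dB hd φ ψ hφ
    (fun y hy => h y (mem_Hl X ℓ i y hy)) x hx

theorem back_abs {A B : Type w} [AddCommGroup A] [AddCommGroup B] (e : A ≃+ B) (φ : A →+ A)
    (ψ : B →+ B) (hφ : ∀ x, e (φ x) = ψ (e x)) (N : ℕ) (h : ∀ z : B, N • (ψ z - z) = 0) (x : A) :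
    N • (φ x - x) = 0 := by
  apply e.injective
  rw [map_nsmul, map_sub, hφ, map_zero]
  exact h _

theorem actsTriviallyQ {X : Scheme.{u}} (ℓ i : ℕ)
    (φ : ∀ ν, EtAdic.Hmod X ℓ i ν →+ EtAdic.Hmod X ℓ i ν)
    {B : ℕ → Type (u + 1)} [∀ ν, AddCommGroup (B ν)]
    (e : ∀ ν, EtAdic.Hmod X ℓ i ν ≃+ B ν) (ψ : ∀ ν, B ν →+ B ν)
    (hφ : ∀ ν x, e ν (φ ν x) = ψ ν (e ν x)) (N : ℕ) (hN : 0 < N)
    (h : ∀ ν (z : B ν), N • (ψ ν z - z) = 0) : EtAdic.ActsTriviallyQ ℓ φ :=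
  fun x _ => ⟨N, hN, fun ν => back_abs (e ν) (φ ν) (ψ ν) (hφ ν) N (h ν) (x ν)⟩

end Groth.Agent.Lefpen.H712.ActsQ0
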