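import Groth.Agent.Vancyc.H684.UnifEt
import Groth.Agent.Etcore.HC
import Groth.Prelude.Def_LefMon

/-!
# `EtAdic.Hmod`, `EtAdic.Hred`, `EtAdic.Hmap` and the versions with the short instances
-/

set_option autoImplicit false
universe u

open CategoryTheory CategoryTheory.Limits AlgebraicGeometry Opposite

namespace Groth.Agent.Lefpen.H712.EH

open Groth.Agent.Etcore.EtInst (HH)
open Groth.Agent.Vancyc.H684.UnifEt (hm zr)

/-- The identity. -/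
noncomputable def eH (X : Scheme.{u}) (F : EtCoh.Ab X) (n : ℕ) : EtCoh.H X F n ≃+ HH X F n :=
  AddEquiv.refl _

/-- The identity. -/
noncomputable def eM (X : Scheme.{u}) (ℓ i ν : ℕ) :
    EtAdic.Hmod X ℓ i ν ≃+ HH X (EtCoh.const X (ZMod (ℓ ^ ν))) i :=
  eH X (EtCoh.const X (ZMod (ℓ ^ ν))) i

theorem eM_Hred (X : Scheme.{u}) (ℓ i ν : ℕ) (x : EtAdic.Hmod X ℓ i (ν + 1)) :
    eM X ℓ i ν (EtAdic.Hred X ℓ i ν x) = hm X (zr ℓ (Nat.le_succ ν)) i (eM X ℓ i (ν + 1) x) := rfl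

theorem eM_Hmap {X Y : Scheme.{u}} (ℓ : ℕ) (f : Y ⟶ X) (hf : PreservesFiniteLimits (EtCoh.pull f))
    (i ν : ℕ) (x : EtAdic.Hmod X ℓ i ν) :
    eM Y ℓ i ν (EtAdic.Hmap ℓ f hf i ν x) =
      Groth.Agent.Etcore.HC.HC (ZMod (ℓ ^ ν)) f i (eM X ℓ i ν x) := rfl

end Groth.Agent.Lefpen.H712.EH
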