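import Groth.Agent.Lefpen.H712.LicAlg
import Groth.Agent.Vancyc.H684.UnifEt
import Groth.Agent.Etcore.HC
import Groth.Agent.Lefpen.H712.ActsQ0
import Groth.Agent.Lefpen.H712.EH

/-!
# Rationally trivial actions on `l`-adic cohomology, at finite levels
-/

set_option autoImplicit false
universe u w

open CategoryTheory CategoryTheory.Limits AlgebraicGeometry Opposite
open scoped Groth.Agent.Etcore.EtInst
open Groth.Agent.Etcore.EtInst Groth.Agent.Etcore.HpullCalc Groth.Agent.Etcore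

namespace Groth.Agent.Lefpen.H712.ActsQ

open Groth.Agent.Vancyc.H684.UnifEt Groth.Agent.Vancyc.H684.UnifSys Groth.Agent.Vancyc.H684.UnifAlg

/-- Naturality of the pullback in the coefficients. -/
theorem hm_HC {X Y : Scheme.{u}} {M M' : Type} [AddCommGroup M] [AddCommGroup M'] (g : M →+ M')
    (f : Y ⟶ X) (i : ℕ) (x : HH X (EtCoh.const X M) i) :
    hm Y g i (HC.HC M f i x) = HC.HC M' f i (hm X g i x) := by
  have e : (EtCoh.pull f).map (cm X g) ≫ (EtCore.pullConst f M').hom =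
      (EtCore.pullConst f M).hom ≫ cm Y g :=
    (EtCore.pullConstIso f).hom.naturality _
  unfold hm HC.HC
  rw [HC.hpl_map, HC.map_hpl, e]

section Abs

/-- An additive map of systems which is rationally trivial on the limit is trivial at all levels up to a fixed
power of `ℓ`, which depends only on the system. -/
theorem exists_actsQ {ℓ : ℕ} (hℓ : ℓ.Prime) {H : ℕ → ℕ → Type w} [∀ i N, AddCommGroup (H i N)]
    (S : GSys ℓ H) [∀ i N, Finite (H i N)] (i : ℕ) :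
    ∃ A : ℕ, ∀ φ : ∀ ν, H i ν →+ H i ν,
      (∀ ν x, φ ν (S.r i (Nat.le_succ ν) x) = S.r i (Nat.le_succ ν) (φ (ν + 1) x)) →
      (∀ x : ∀ ν, H i ν, (∀ ν, S.r i (Nat.le_succ ν) (x (ν + 1)) = x ν) →
        ∃ N : ℕ, 0 < N ∧ ∀ ν, N • (φ ν (x ν) - x ν) = 0) →
      ∀ ν (z : H i ν), ℓ ^ A • (φ ν z - z) = 0 := by
  obtain ⟨C, hC⟩ := LicAlg.exists_lift S i
  obtain ⟨t, ht⟩ := S.exists_torsion_bound i
  refine ⟨C + t, fun φ hφ hN ν z => ?_⟩
  obtain ⟨x, hx⟩ := hC ν z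
  obtain ⟨N, hN0, hN1⟩ := hN (fun ν => S.ev i ν x) (fun ν => S.r_ev i _ x)
  -- the difference in the limit
  let y : S.lim i := ⟨fun ν => φ ν (S.ev i ν x) - S.ev i ν x, S.mem_lim_of_succ fun ν => by
    rw [map_sub, ← hφ, S.r_ev]⟩
  have hy : ∀ ν, S.ev i ν y = φ ν (S.ev i ν x) - S.ev i ν x := fun ν => rfl
  obtain ⟨a, N', hN', rfl⟩ := Nat.exists_eq_pow_mul_and_not_dvd hN0.ne' ℓ hℓ.ne_one
  have h1 : ℓ ^ a • y = 0 := by
    apply S.ext_ev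
    intro μ
    rw [map_nsmul, map_zero, hy]
    have h2 := hN1 μ
    have hco : Nat.Coprime N' (ℓ ^ μ) :=
      Nat.Coprime.pow_right _ ((Nat.Prime.coprime_iff_not_dvd hℓ).2 hN').symm
    have h3 : N' • (ℓ ^ a • (φ μ (S.ev i μ x) - S.ev i μ x)) = 0 := by
      rw [smul_smul, mul_comm]; exact h2
    have h4 : ℓ ^ μ • (ℓ ^ a • (φ μ (S.ev i μ x) - S.ev i μ x)) = 0 := S.kill i μ _
    have h5 := addOrderOf_dvd_of_nsmul_eq_zero h3
    have h6 := addOrderOf_dvd_of_nsmul_eq_zero h4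
    have h7 := Nat.dvd_one.1 (hco ▸ Nat.dvd_gcd h5 h6)
    exact AddMonoid.addOrderOf_eq_one_iff.1 h7
  have h8 := congrArg (S.ev i ν) (ht a y h1)
  rw [map_nsmul, map_zero, hy, hx] at h8
  rw [add_comm, pow_add, mul_smul, smul_sub (ℓ ^ C), ← map_nsmul]
  exact h8

end Abs

variable {Z : Scheme.{u}} {ℓ : ℕ}

/-- Rationally trivial endomorphisms are uniformly trivial up to a power of `ℓ`. -/
theorem exists_uniform (hℓ : ℓ.Prime)
    (hfin : ∀ i N : ℕ, Finite (HH Z (EtCoh.const Z (ZMod (ℓ ^ N))) i)) (i : ℕ) :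
    ∃ A : ℕ, ∀ (f : Z ⟶ Z) (hf : PreservesFiniteLimits (EtCoh.pull f)),
      EtAdic.ActsTriviallyQ ℓ (fun ν => EtAdic.Hmap ℓ f hf i ν) →
      ∀ ν (z : HH Z (EtCoh.const Z (ZMod (ℓ ^ ν))) i), ℓ ^ A • (HC.HC (ZMod (ℓ ^ ν)) f i z - z) = 0 := by
  obtain ⟨A, hA⟩ := exists_actsQ hℓ (etSys Z ℓ hℓ.pos) i
  refine ⟨A, fun f hf h => hA (fun ν => HC.HC (ZMod (ℓ ^ ν)) f i)
    (fun ν x => (hm_HC (zr ℓ (Nat.le_succ ν)) f i x).symm) ?_⟩
  exact ActsQ0.transport ℓ i _ h (fun ν => EH.eM Z ℓ i ν) (fun ν => hm Z (zr ℓ (Nat.le_succ ν)) i)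
    (EH.eM_Hred Z ℓ i) _ (EH.eM_Hmap ℓ f hf i)

/-- The converse. -/
theorem of_uniform {i : ℕ} (f : Z ⟶ Z) (hf : PreservesFiniteLimits (EtCoh.pull f)) (N : ℕ) (hN : 0 < N)
    (h : ∀ ν (z : HH Z (EtCoh.const Z (ZMod (ℓ ^ ν))) i), N • (HC.HC (ZMod (ℓ ^ ν)) f i z - z) = 0) :
    EtAdic.ActsTriviallyQ ℓ (fun ν => EtAdic.Hmap ℓ f hf i ν) :=
  ActsQ0.actsTriviallyQ ℓ i _ (fun ν => EH.eM Z ℓ i ν) _ (EH.eM_Hmap ℓ f hf i) N hN h

end Groth.Agent.Lefpen.H712.ActsQ
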