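import Mathlib.Data.Nat.Prime.Basic
import Mathlib.Algebra.Order.Ring.Nat
import Mathlib.Tactic.Linarith
import Mathlib.Tactic.Ring
import Mathlib.Algebra.Order.Archimedean.Basic
import Mathlib.GroupTheory.Index
import Mathlib.Data.Nat.Prime.Pow
import Mathlib.GroupTheory.OrderOfElement

/-!
# The numerical argument of the local counting

`a ν = |M_ν|`, `x ν = |H^m(X)|`, `y ν = |H^{m+1}(X)|`, `z ν = |H^{m±1}(Z)|`, `s ν = |M_ν^I|`, `rr ν = a ν / x ν`.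
-/

set_option autoImplicit false

namespace Groth.Agent.Lefpen.H712.Numerics

/-- If `ℓ^(2ν) ≤ C ℓ^ν` for all `ν` then false. -/
theorem exists_pow_gt (ℓ : ℕ) (hℓ : 2 ≤ ℓ) (C : ℕ) : ∃ ν, C < ℓ ^ ν :=
  ⟨C, Nat.lt_pow_self hℓ⟩

/-- **The middle degree estimate** (`m ≥ 1`). -/
theorem bounded (ℓ : ℕ) (hℓ : 2 ≤ ℓ) (a x y z s rr : ℕ → ℕ)
    (hz : ∀ ν, 0 < z ν) (hx : ∀ ν, 0 < x ν)
    (h1 : ∀ ν, a ν = x ν * rr ν)
    (h2 : ∀ ν, y ν * rr ν = ℓ ^ ν * z ν)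
    (h3 : ∀ ν, s ν * z ν ≤ x ν * y ν)
    (C₀ : ℕ) (h4 : ∀ ν, a ν ≤ C₀ * s ν)
    (β β' Ca Cx : ℕ) (ha : ∀ ν, ∃ e, e ≤ Ca ∧ a ν = ℓ ^ (β * ν + e))
    (hxg : ∀ ν, ∃ e, e ≤ Cx ∧ x ν = ℓ ^ (β' * ν + e)) :
    ∀ ν, rr ν ≤ ℓ ^ Ca := by
  have hℓ0 : 0 < ℓ := by omega
  -- `rr^2 ≤ C₀ ℓ^ν`
  have hr2 : ∀ ν, rr ν * rr ν ≤ C₀ * ℓ ^ ν := by
    intro ν
    have e1 : a ν * z ν * (rr ν * rr ν) ≤ C₀ * (ℓ ^ ν) * (a ν * z ν) := by
      calc a ν * z ν * (rr ν * rr ν) ≤ (C₀ * s ν) * z ν * (rr ν * rr ν) := by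
            have := h4 ν; gcongr
        _ = C₀ * (s ν * z ν) * (rr ν * rr ν) := by ring
        _ ≤ C₀ * (x ν * y ν) * (rr ν * rr ν) := by
            have := h3 ν; gcongr
        _ = C₀ * (x ν * rr ν) * (y ν * rr ν) := by ring
        _ = C₀ * (ℓ ^ ν) * (a ν * z ν) := by rw [← h1, h2]; ring
    have ha0 : 0 < a ν := by
      obtain ⟨e, -, he⟩ := ha ν
      rw [he]; exact pow_pos hℓ0 _
    have e2 : 0 < a ν * z ν := Nat.mul_pos ha0 (hz ν)
    have e3 : rr ν * rr ν * (a ν * z ν) ≤ C₀ * ℓ ^ ν * (a ν * z ν) := by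
      rw [mul_comm (rr ν * rr ν)]; exact e1
    exact Nat.le_of_mul_le_mul_right e3 e2
  -- growth of `rr`
  have hββ : β ≤ β' := by
    by_contra hlt
    push Not at hlt
    obtain ⟨ν, hν⟩ := exists_pow_gt ℓ hℓ (C₀ * ℓ ^ (2 * Cx))
    obtain ⟨e, -, he⟩ := ha ν
    obtain ⟨e', he', hxe⟩ := hxg ν
    have e4 : ℓ ^ ν ≤ rr ν * ℓ ^ Cx := by
      have e5 : ℓ ^ (β' * ν) * ℓ ^ ν ≤ ℓ ^ (β' * ν) * (rr ν * ℓ ^ Cx) := by
        calc ℓ ^ (β' * ν) * ℓ ^ ν = ℓ ^ (β' * ν + ν) := by rw [pow_add]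
          _ ≤ ℓ ^ (β * ν + e) := by
              apply Nat.pow_le_pow_right hℓ0
              have : (β' + 1) * ν ≤ β * ν := Nat.mul_le_mul_right _ hlt
              nlinarith
          _ = a ν := he.symm
          _ = x ν * rr ν := h1 ν
          _ = ℓ ^ (β' * ν) * ℓ ^ e' * rr ν := by rw [hxe, pow_add]
          _ ≤ ℓ ^ (β' * ν) * ℓ ^ Cx * rr ν := by
              have := Nat.pow_le_pow_right hℓ0 he'
              gcongr
          _ = ℓ ^ (β' * ν) * (rr ν * ℓ ^ Cx) := by ring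
      exact Nat.le_of_mul_le_mul_left e5 (pow_pos hℓ0 _)
    have e6 : ℓ ^ ν * ℓ ^ ν ≤ C₀ * ℓ ^ (2 * Cx) * ℓ ^ ν := by
      calc ℓ ^ ν * ℓ ^ ν ≤ (rr ν * ℓ ^ Cx) * (rr ν * ℓ ^ Cx) := Nat.mul_le_mul e4 e4
        _ = rr ν * rr ν * ℓ ^ (2 * Cx) := by rw [two_mul, pow_add]; ring
        _ ≤ C₀ * ℓ ^ ν * ℓ ^ (2 * Cx) := by
            have := hr2 ν; gcongr
        _ = C₀ * ℓ ^ (2 * Cx) * ℓ ^ ν := by ring
    have e7 := Nat.le_of_mul_le_mul_right e6 (pow_pos hℓ0 ν)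
    omega
  intro ν
  obtain ⟨e, he, hae⟩ := ha ν
  obtain ⟨e', he', hxe⟩ := hxg ν
  have e8 : x ν * rr ν ≤ x ν * ℓ ^ Ca := by
    calc x ν * rr ν = a ν := (h1 ν).symm
      _ = ℓ ^ (β * ν) * ℓ ^ e := by rw [hae, pow_add]
      _ ≤ ℓ ^ (β' * ν + e') * ℓ ^ Ca := by
          apply Nat.mul_le_mul
          · apply Nat.pow_le_pow_right hℓ0
            have := Nat.mul_le_mul_right ν hββ
            omega
          · exact Nat.pow_le_pow_right hℓ0 he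
      _ = x ν * ℓ ^ Ca := by rw [hxe]
  exact Nat.le_of_mul_le_mul_left e8 (hx ν)

/-- **The degree zero estimate.** -/
theorem bounded_zero (a x s rr : ℕ → ℕ) (hx : ∀ ν, 0 < x ν)
    (h1 : ∀ ν, a ν = x ν * rr ν) (h3 : ∀ ν, s ν ≤ x ν) (C₀ : ℕ) (h4 : ∀ ν, a ν ≤ C₀ * s ν) :
    ∀ ν, rr ν ≤ C₀ := by
  intro ν
  have e1 : x ν * rr ν ≤ x ν * C₀ := by
    calc x ν * rr ν = a ν := (h1 ν).symm
      _ ≤ C₀ * s ν := h4 ν
      _ ≤ C₀ * x ν := Nat.mul_le_mul_left _ (h3 ν)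
      _ = x ν * C₀ := mul_comm _ _
  exact Nat.le_of_mul_le_mul_left e1 (hx ν)

/-- A subgroup of small index in a finite `ℓ`-group contains the multiples of a fixed power of `ℓ`. -/
theorem smul_mem_range {M H : Type*} [AddCommGroup M] [AddCommGroup H] (φ : H →+ M) (ℓ : ℕ)
    (hℓ : ℓ.Prime) (e : ℕ) (hM : Nat.card M = ℓ ^ e) (C : ℕ) (h : φ.range.index ≤ ℓ ^ C) (z : M) :
    ∃ x : H, φ x = ℓ ^ C • z := by
  have h1 : φ.range.index ∣ ℓ ^ e := by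
    rw [← hM]
    exact φ.range.index_dvd_card
  obtain ⟨j, -, hj⟩ := (Nat.dvd_prime_pow hℓ).1 h1
  have h2 : j ≤ C := by
    rw [hj] at h
    exact (Nat.pow_le_pow_iff_right hℓ.one_lt).1 h
  obtain ⟨i, rfl⟩ := Nat.exists_eq_add_of_le h2
  have h3 : ℓ ^ j • z ∈ φ.range := by
    rw [← hj]
    exact φ.range.nsmul_index_mem z
  obtain ⟨x, hx⟩ := h3
  exact ⟨ℓ ^ i • x, by rw [map_nsmul, hx, smul_smul, ← pow_add, add_comm i j]⟩

/-- Index of the range of an injective homomorphism. -/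
theorem card_eq_mul_index {M H : Type*} [AddCommGroup M] [AddCommGroup H] (φ : H →+ M)
    (hφ : Function.Injective φ) : Nat.card M = Nat.card H * φ.range.index := by
  rw [← φ.range.card_mul_index]
  congr 1
  exact (Nat.card_congr (AddMonoidHom.ofInjective hφ).toEquiv).symm

/-- The cardinal consequence of `0 → A → M → (cyclic of order N) → B → C → 0`. -/
theorem card_exact {A M P B D : Type*} [AddCommGroup A] [AddCommGroup M] [AddCommGroup P]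
    [AddCommGroup B] [AddCommGroup D] (s : A →+ M) (φ : M →+ P) (ψ : P →+ B) (t : B →+ D)
    (ht : Function.Surjective t) (h1 : φ.ker = s.range) (h2 : ψ.ker = φ.range) (h3 : t.ker = ψ.range) :
    Nat.card B * s.range.index = Nat.card P * Nat.card D := by
  have e1 : Nat.card B = Nat.card ψ.range * Nat.card D := by
    rw [← h3]
    have := AddSubgroup.card_mul_index t.ker
    rw [← this]
    congr 1
    rw [AddSubgroup.index]
    exact Nat.card_congr (QuotientAddGroup.quotientKerEquivOfSurjective t ht).toEquiv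
  have e2 : s.range.index = Nat.card φ.range := by
    rw [← h1, AddSubgroup.index]
    exact Nat.card_congr (QuotientAddGroup.quotientKerEquivRange φ).toEquiv
  have e3 : Nat.card P = Nat.card φ.range * Nat.card ψ.range := by
    rw [← h2]
    have := AddSubgroup.card_mul_index ψ.ker
    rw [← this]
    congr 1
    rw [AddSubgroup.index]
    exact Nat.card_congr (QuotientAddGroup.quotientKerEquivRange ψ).toEquiv
  rw [e1, e2, e3]
  ring

end Groth.Agent.Lefpen.H712.Numerics
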