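import Groth.Agent.Vancyc.H684.UnifCount
import Groth.Agent.Lefpen.H712.Numerics

/-!
# The counting argument of the local theorem, abstractly

`S`, `S'` graded systems (the cohomology of the geometric generic fibre and of the total space over a strictly
henselian trait), `s : G m ν → H m ν` injective, with the cardinality relations given by the Picard–Lefschetz
sequence, duality, the Leray spectral sequence and purity.  If `ℓ^A` maps `H m ν` into the invariants `I ν`, then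
`ℓ^C (H m ν) ⊆ im s` with `C` independent of `ν`.
-/

set_option autoImplicit false

universe w w'

namespace Groth.Agent.Lefpen.H712.LicAlg

open Groth.Agent.Vancyc.H684.UnifAlg Groth.Agent.Vancyc.H684.UnifSys
  Groth.Agent.Vancyc.H684.UnifCount Groth.Agent.Lefpen.H712.Numerics

variable {ℓ : ℕ} {H : ℕ → ℕ → Type w} [∀ i N, AddCommGroup (H i N)] (S : GSys ℓ H)
  [∀ i N, Finite (H i N)]

include S

/-- `|H i N [ℓ]|` is bounded. -/
theorem card_tor_le' (i N C : ℕ) (hC : ∀ j ≤ i, Nat.card (H j 1) ≤ C) :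
    Nat.card (tor (H i N) ℓ) ≤ C * C := by
  have hC1 : 1 ≤ C := le_trans Nat.card_pos (hC 0 (Nat.zero_le _))
  rcases N with _ | N
  · have : Subsingleton (H i 0) := by
      refine ⟨fun x y => ?_⟩
      have hx := S.kill i 0 x
      have hy := S.kill i 0 y
      rw [pow_zero, one_nsmul] at hx hy
      rw [hx, hy]
    exact (Finite.card_le_one_iff_subsingleton.2 inferInstance).trans (Nat.mul_le_mul hC1 hC1)
  · have hle' : 1 + N ≤ N + 1 := (Nat.add_comm 1 N).le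
    have hα : ∀ x : H i (N + 1), ℓ • x = 0 → S.α i 1 N (S.r i (Nat.le_add_right N 1) x) = 0 := by
      intro x hx
      have h1 := S.α_r i 1 N (S.r i hle' x)
      rw [S.r_trans, pow_one, ← map_nsmul, hx, map_zero] at h1
      exact h1
    let g : tor (H i (N + 1)) ℓ →+ (S.α i 1 N).ker :=
      { toFun := fun x => ⟨S.r i (Nat.le_add_right N 1) x.1, hα x.1 x.2⟩
        map_zero' := Subtype.ext (map_zero _)
        map_add' := fun x y => Subtype.ext (map_add _ _ _) }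
    have hker : ∀ x : tor (H i (N + 1)) ℓ, g x = 0 → ∃ y : H i 1, S.α i N 1 y = x.1 := by
      intro x hx
      exact (S.ex2 i N 1 x.1).1 (congrArg Subtype.val hx)
    have h1 : Nat.card (tor (H i (N + 1)) ℓ) =
        Nat.card (tor (H i (N + 1)) ℓ ⧸ g.ker) * Nat.card g.ker :=
      AddSubgroup.card_eq_card_quotient_mul_card_addSubgroup g.ker
    have h2 : Nat.card (tor (H i (N + 1)) ℓ ⧸ g.ker) ≤ Nat.card (S.α i 1 N).ker :=
      Nat.card_le_card_of_injective _ (QuotientAddGroup.kerLift_injective g)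
    have h3 : Nat.card g.ker ≤ Nat.card (H i 1) := by
      refine Nat.card_le_card_of_injective (fun x : g.ker => Classical.choose (hker x.1 x.2))
        fun x y hxy => ?_
      have h1 := Classical.choose_spec (hker x.1 x.2)
      have h2 := Classical.choose_spec (hker y.1 y.2)
      apply Subtype.ext
      apply Subtype.ext
      rw [← h1, ← h2]
      exact congrArg (S.α i N 1) hxy
    have h4 : Nat.card (S.α i 1 N).ker ≤ C := by
      rcases i with _ | i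
      · have : Subsingleton (S.α 0 1 N).ker := by
          refine ⟨fun x y => Subtype.ext (S.inj 1 N ?_)⟩
          rw [x.2, y.2]
        exact (Finite.card_le_one_iff_subsingleton.2 this).trans hC1
      · refine le_trans ?_ (hC i (Nat.le_succ _))
        have hs : ∀ x : (S.α (i + 1) 1 N).ker, ∃ z, S.δ i 1 N z = x.1 := fun x => (S.ex1 i 1 N x.1).1 x.2
        refine Nat.card_le_card_of_injective (fun x => Classical.choose (hs x)) fun x y hxy => ?_
        apply Subtype.ext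
        rw [← Classical.choose_spec (hs x), ← Classical.choose_spec (hs y)]
        exact congrArg _ hxy
    rw [h1]
    exact Nat.mul_le_mul (h2.trans h4) (h3.trans (hC i le_rfl))

/-- `|H i N [ℓ^A]|` is bounded. -/
theorem exists_card_tor_le (i A : ℕ) : ∃ C, 0 < C ∧ ∀ N, Nat.card (tor (H i N) (ℓ ^ A)) ≤ C := by
  let C₁ := (Finset.range (i + 1)).sup (fun j => Nat.card (H j 1))
  have hC₁ : ∀ j ≤ i, Nat.card (H j 1) ≤ C₁ := fun j hj =>
    Finset.le_sup (f := fun j => Nat.card (H j 1)) (Finset.mem_range.2 (by omega))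
  have hC1 : 1 ≤ C₁ := le_trans Nat.card_pos (hC₁ 0 (Nat.zero_le _))
  refine ⟨(C₁ * C₁) ^ A, pow_pos (Nat.mul_pos hC1 hC1) _, fun N => ?_⟩
  exact (card_tor_pow_le ℓ A).trans (Nat.pow_le_pow_left (card_tor_le' S i N C₁ hC₁) _)

/-- Growth of the orders. -/
theorem exists_growth (hℓ : ℓ.Prime) (i : ℕ) :
    ∃ b C : ℕ, 0 < C ∧ ∀ N, Nat.card (H i N) ≤ C * (ℓ ^ N) ^ b ∧ (ℓ ^ N) ^ b ≤ C * Nat.card (H i N) := by
  have : Fact ℓ.Prime := ⟨hℓ⟩
  obtain ⟨t, ht⟩ := S.exists_torsion_bound i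
  obtain ⟨t', ht'⟩ := S.exists_torsion_bound (i + 1)
  have h0 : ∀ (m : ℕ) (x : S.lim i), ℓ ^ m • x = 0 → ℓ ^ (t + t') • x = 0 := by
    intro m x hx
    rw [add_comm, pow_add, mul_nsmul', ht m x hx, nsmul_zero]
  have h1 : ∀ (m : ℕ) (x : S.lim (i + 1)), ℓ ^ m • x = 0 → ℓ ^ (t + t') • x = 0 := by
    intro m x hx
    rw [pow_add, mul_nsmul', ht' m x hx, nsmul_zero]
  obtain ⟨b, hb⟩ := S.exists_unif i (t + t') h0 h1
  obtain ⟨C, hC, hC'⟩ := exists_card_tor_le S i (3 * (t + t'))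
  refine ⟨b, C + (ℓ ^ (3 * (t + t'))) ^ b, by omega, fun N => ?_⟩
  have : NeZero (ℓ ^ N) := ⟨pow_ne_zero _ hℓ.pos.ne'⟩
  obtain ⟨u, v, h2, h3⟩ := hb N
  obtain ⟨h4, h5⟩ := card_bounds (pow_pos hℓ.pos _) u v h2 h3 (hC' N)
  exact ⟨h4.trans (Nat.mul_le_mul_right _ (Nat.le_add_right _ _)),
    h5.trans (Nat.mul_le_mul_right _ (Nat.le_add_left _ _))⟩

/-- Up to a fixed power of `ℓ`, every class lifts to the limit. -/
theorem exists_lift (i : ℕ) : ∃ C : ℕ, ∀ (N : ℕ) (z : H i N), ∃ x : S.lim i, S.ev i N x = ℓ ^ C • z := by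
  obtain ⟨t', ht'⟩ := S.exists_torsion_bound (i + 1)
  refine ⟨t', fun N z => ?_⟩
  refine S.exists_of_δlim_eq_zero i N (ℓ ^ t' • z) ?_
  rw [map_nsmul]
  apply ht' N
  rw [← map_nsmul, S.kill, map_zero]

omit S in
/-- `ℓ`-groups. -/
theorem exists_card_eq_pow_of_kill (hℓ : ℓ.Prime) {M : Type*} [AddCommGroup M] [Finite M] (N : ℕ)
    (h : ∀ x : M, ℓ ^ N • x = 0) : ∃ e, Nat.card M = ℓ ^ e := by
  have : Fact ℓ.Prime := ⟨hℓ⟩
  have hp : IsPGroup ℓ (Multiplicative M) := fun g =>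
    ⟨N, Multiplicative.toAdd.injective (by
      rw [toAdd_pow, toAdd_one]
      exact h (Multiplicative.toAdd g))⟩
  obtain ⟨e, he⟩ := IsPGroup.iff_card.1 hp
  exact ⟨e, he⟩

omit S in
omit [∀ i N, AddCommGroup (H i N)] [∀ i N, Finite (H i N)] in
/-- The middle degree estimate, with two-sided growth bounds. -/
theorem bounded' (ℓ : ℕ) (hℓ : 2 ≤ ℓ) (a x y z s rr : ℕ → ℕ)
    (hz : ∀ ν, 0 < z ν) (hx : ∀ ν, 0 < x ν)
    (h1 : ∀ ν, a ν = x ν * rr ν)
    (h2 : ∀ ν, y ν * rr ν = ℓ ^ ν * z ν)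
    (h3 : ∀ ν, s ν * z ν ≤ x ν * y ν)
    (C₀ : ℕ) (h4 : ∀ ν, a ν ≤ C₀ * s ν)
    (β β' Ca Cx : ℕ) (ha : ∀ ν, a ν ≤ Ca * (ℓ ^ ν) ^ β ∧ (ℓ ^ ν) ^ β ≤ Ca * a ν)
    (hxg : ∀ ν, x ν ≤ Cx * (ℓ ^ ν) ^ β' ∧ (ℓ ^ ν) ^ β' ≤ Cx * x ν) :
    ∀ ν, rr ν ≤ Ca * Cx := by
  have hℓ0 : 0 < ℓ := by omega
  have hr0 : ∀ ν, 0 < rr ν := by
    intro ν
    rcases Nat.eq_zero_or_pos (rr ν) with h | h
    · have h5 := h2 ν
      rw [h, mul_zero] at h5
      have h6 : 0 < ℓ ^ ν * z ν := Nat.mul_pos (pow_pos hℓ0 _) (hz ν)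
      omega
    · exact h
  -- `rr^2 ≤ C₀ ℓ^ν`
  have hr2 : ∀ ν, rr ν * rr ν ≤ C₀ * ℓ ^ ν := by
    intro ν
    have e1 : a ν * z ν * (rr ν * rr ν) ≤ C₀ * (ℓ ^ ν) * (a ν * z ν) := by
      calc a ν * z ν * (rr ν * rr ν) ≤ (C₀ * s ν) * z ν * (rr ν * rr ν) := by
            have := h4 ν; gcongr
        _ = C₀ * (s ν * z ν) * (rr ν * rr ν) := by ring
        _ ≤ C₀ * (x ν * y ν) * (rr ν * rr ν) := by
            have := h3 ν; gcongr
        _ = C₀ * (x ν * rr ν) * (y ν * rr ν) := by ring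
        _ = C₀ * (ℓ ^ ν) * (a ν * z ν) := by rw [← h1, h2]; ring
    have ha0 : 0 < a ν := by
      rw [h1]; exact Nat.mul_pos (hx ν) (hr0 ν)
    have e2 : 0 < a ν * z ν := Nat.mul_pos ha0 (hz ν)
    have e3 : rr ν * rr ν * (a ν * z ν) ≤ C₀ * ℓ ^ ν * (a ν * z ν) := by
      rw [mul_comm (rr ν * rr ν)]; exact e1
    exact Nat.le_of_mul_le_mul_right e3 e2
  have hββ : β ≤ β' := by
    by_contra hlt
    push Not at hlt
    obtain ⟨ν, hν⟩ := exists_pow_gt ℓ hℓ (C₀ * ((Ca * Cx) * (Ca * Cx)))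
    have hp : 0 < ℓ ^ ν := pow_pos hℓ0 _
    have e4 : ℓ ^ ν ≤ Ca * Cx * rr ν := by
      have e5 : (ℓ ^ ν) ^ β' * ℓ ^ ν ≤ (ℓ ^ ν) ^ β' * (Ca * Cx * rr ν) := by
        calc (ℓ ^ ν) ^ β' * ℓ ^ ν = (ℓ ^ ν) ^ (β' + 1) := by rw [pow_succ]
          _ ≤ (ℓ ^ ν) ^ β := Nat.pow_le_pow_right hp hlt
          _ ≤ Ca * a ν := (ha ν).2
          _ = Ca * (x ν * rr ν) := by rw [h1]
          _ ≤ Ca * ((Cx * (ℓ ^ ν) ^ β') * rr ν) := by
              have := (hxg ν).1; gcongr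
          _ = (ℓ ^ ν) ^ β' * (Ca * Cx * rr ν) := by ring
      exact Nat.le_of_mul_le_mul_left e5 (pow_pos hp _)
    have e6 : ℓ ^ ν * ℓ ^ ν ≤ C₀ * ((Ca * Cx) * (Ca * Cx)) * ℓ ^ ν := by
      calc ℓ ^ ν * ℓ ^ ν ≤ (Ca * Cx * rr ν) * (Ca * Cx * rr ν) := Nat.mul_le_mul e4 e4
        _ = rr ν * rr ν * ((Ca * Cx) * (Ca * Cx)) := by ring
        _ ≤ C₀ * ℓ ^ ν * ((Ca * Cx) * (Ca * Cx)) := by
            have := hr2 ν; gcongr
        _ = C₀ * ((Ca * Cx) * (Ca * Cx)) * ℓ ^ ν := by ring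
    have e7 := Nat.le_of_mul_le_mul_right e6 hp
    omega
  intro ν
  have hp : 0 < ℓ ^ ν := pow_pos hℓ0 _
  have e8 : x ν * rr ν ≤ x ν * (Ca * Cx) := by
    calc x ν * rr ν = a ν := (h1 ν).symm
      _ ≤ Ca * (ℓ ^ ν) ^ β := (ha ν).1
      _ ≤ Ca * (ℓ ^ ν) ^ β' := by
          have := Nat.pow_le_pow_right hp hββ
          gcongr
      _ ≤ Ca * (Cx * x ν) := by
          have := (hxg ν).2
          gcongr
      _ = x ν * (Ca * Cx) := by ring
  exact Nat.le_of_mul_le_mul_left e8 (hx ν)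

omit S in
omit [∀ i N, Finite (H i N)] in
/-- `|M| ≤ |M[p]| |I|` if `p M ⊆ I`. -/
theorem card_le_tor_mul {M : Type*} [AddCommGroup M] [Finite M] (p : ℕ) (I : AddSubgroup M)
    (h : ∀ z : M, p • z ∈ I) : Nat.card M ≤ Nat.card (tor M p) * Nat.card I := by
  let g : M →+ I :=
    { toFun := fun z => ⟨p • z, h z⟩
      map_zero' := Subtype.ext (nsmul_zero _)
      map_add' := fun x y => Subtype.ext (nsmul_add _ _ _) }
  exact card_le_of_exact (G := tor M p) (fun x => x.1) g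
    (fun x hx => ⟨⟨x, congrArg Subtype.val hx⟩, rfl⟩)

section Main

variable {G : ℕ → ℕ → Type w'} [∀ i N, AddCommGroup (G i N)] (S' : GSys ℓ G)
  [∀ i N, Finite (G i N)]

include S'

/-- **The local theorem, abstractly**: `s : G m ν → H m ν` has cokernel killed by a fixed power of `ℓ`
(first alternative of `h3`: `m = 0`). -/
theorem lic (hℓ : ℓ.Prime) (m : ℕ) (s : ∀ ν, G m ν →+ H m ν)
    (hs : ∀ ν, Function.Injective (s ν))
    (hex : ∀ ν, Nat.card (G (m + 1) ν) * (s ν).range.index = ℓ ^ ν * Nat.card (H (m + 1) ν))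
    (I : ∀ ν, AddSubgroup (H m ν))
    (h3 : (∀ ν, Nat.card (I ν) ≤ Nat.card (G m ν)) ∨
      ∀ ν, Nat.card (I ν) * Nat.card (H (m + 1) ν) ≤ Nat.card (G m ν) * Nat.card (G (m + 1) ν))
    (A : ℕ) (hA : ∀ ν (z : H m ν), ℓ ^ A • z ∈ I ν) :
    ∃ C, ∀ ν (z : H m ν), ∃ x, s ν x = ℓ ^ C • z := by
  obtain ⟨C₀, hC₀, hC₀'⟩ := exists_card_tor_le S m A
  obtain ⟨β, Ca, hCa, hgr⟩ := exists_growth S hℓ m
  obtain ⟨β', Cx, hCx, hgr'⟩ := exists_growth S' hℓ m
  have h4 : ∀ ν, Nat.card (H m ν) ≤ C₀ * Nat.card (I ν) := fun ν =>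
    (card_le_tor_mul _ (I ν) (hA ν)).trans (Nat.mul_le_mul_right _ (hC₀' ν))
  have h1 : ∀ ν, Nat.card (H m ν) = Nat.card (G m ν) * (s ν).range.index := fun ν =>
    card_eq_mul_index (s ν) (hs ν)
  have key : ∀ ν, (s ν).range.index ≤ C₀ + Ca * Cx := by
    rcases h3 with h3 | h3
    · intro ν
      refine le_trans ?_ (Nat.le_add_right _ _)
      exact bounded_zero (fun ν => Nat.card (H m ν)) (fun ν => Nat.card (G m ν))
        (fun ν => Nat.card (I ν)) (fun ν => (s ν).range.index) (fun ν => Nat.card_pos) h1 h3 C₀ h4 ν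
    · intro ν
      refine le_trans ?_ (Nat.le_add_left _ _)
      exact bounded' ℓ hℓ.two_le (fun ν => Nat.card (H m ν)) (fun ν => Nat.card (G m ν))
        (fun ν => Nat.card (G (m + 1) ν)) (fun ν => Nat.card (H (m + 1) ν))
        (fun ν => Nat.card (I ν)) (fun ν => (s ν).range.index) (fun ν => Nat.card_pos)
        (fun ν => Nat.card_pos) h1 hex h3 C₀ h4 β β' Ca Cx hgr hgr' ν
  obtain ⟨C, hC⟩ := exists_pow_gt ℓ hℓ.two_le (C₀ + Ca * Cx)
  refine ⟨C, fun ν z => ?_⟩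
  obtain ⟨e, he⟩ := exists_card_eq_pow_of_kill hℓ (M := H m ν) ν (S.kill m ν)
  exact smul_mem_range (s ν) ℓ hℓ e he C ((key ν).trans hC.le) z

end Main

end Groth.Agent.Lefpen.H712.LicAlg
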