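import Groth.Agent.Lefpen.H712.RLevel
import Groth.Agent.Lefpen.H712.EH

/-!
# Conversion of the frozen statements on the cospecialization to the short instances
-/

set_option autoImplicit false
universe u
open CategoryTheory CategoryTheory.Limits AlgebraicGeometry Opposite Abelian
open Groth.Agent.Etcore.EtInst (HH)

namespace Groth.Agent.Lefpen.H712.RConv


theorem eH_Hpull {X Z : Scheme.{u}} (j : Z ⟶ X) [PreservesFiniteLimits (EtCoh.pull j)] (F : EtCoh.Ab X)
    (q : ℕ) (x : EtCoh.H X F q) :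
    EH.eH Z ((EtCoh.pull j).obj F) q (EtCore.Hpull j F q x) =
      Groth.Agent.Etcore.HpullCalc.hp j F q (EH.eH X F q x) := rfl

theorem conv_abs {X Z : Scheme.{u}} (j : Z ⟶ X) [PreservesFiniteLimits (EtCoh.pull j)] (M : Type)
    [AddCommGroup M] (q : ℕ) (P : Type*) [AddCommGroup P]
    (hs : Function.Injective (EtCore.Hpull j (EtCoh.const X M) q))
    (ht : Function.Surjective (EtCore.Hpull j (EtCoh.const X M) (q + 1)))
    (φ : EtCoh.H Z ((EtCoh.pull j).obj (EtCoh.const X M)) q →+ P)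
    (ψ : P →+ EtCoh.H X (EtCoh.const X M) (q + 1))
    (h1 : φ.ker = (EtCore.Hpull j (EtCoh.const X M) q).range) (h2 : ψ.ker = φ.range)
    (h3 : (EtCore.Hpull j (EtCoh.const X M) (q + 1)).ker = ψ.range) :
    Function.Injective (Groth.Agent.Etcore.HC.HC M j q) ∧
      Nat.card (HH X (EtCoh.const X M) (q + 1)) * (Groth.Agent.Etcore.HC.HC M j q).range.index =
        Nat.card P * Nat.card (HH Z (EtCoh.const Z M) (q + 1)) := by
  have e1 := Numerics.card_exact _ φ ψ _ ht h1 h2 h3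
  have e2 := RLevel.transfer (EtCore.Hpull j (EtCoh.const X M) q) (Groth.Agent.Etcore.HC.HC M j q)
    (EH.eH X _ q) ((EH.eH Z _ q).trans (RLevel.kcE M j q)) (fun x => by
      change RLevel.kcE M j q (EH.eH Z _ q (EtCore.Hpull j (EtCoh.const X M) q x)) = _
      rw [eH_Hpull, RLevel.kcE_hp])
  refine ⟨e2.1 hs, ?_⟩
  rw [e2.2, ← Nat.card_congr (EH.eH X (EtCoh.const X M) (q + 1)).toEquiv,
    ← Nat.card_congr ((EH.eH Z _ (q + 1)).trans (RLevel.kcE M j (q + 1))).toEquiv]
  exact e1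

section Gal

variable {R : Type u} [CommRing R] {K : Type u} [Field K] [Algebra R K] {Ω : Type u} [Field Ω]
  [Algebra K Ω] [Algebra R Ω] [IsScalarTower R K Ω]
  {X : Scheme.{u}} (f : X ⟶ Spec (CommRingCat.of R))

theorem galR_of_galH (σ : Ω ≃ₐ[K] Ω) [PreservesFiniteLimits (EtCoh.pull (VanCyc.galGeom f σ))]
    (F : EtCoh.Ab X) (q : ℕ)
    (h : VanCyc.galH f σ F q = AddMonoidHom.id _) (x : HH _ ((EtCoh.pull (VanCyc.jA R f Ω)).obj F) q) :
    RLevel.galR f σ F q x = x :=
  DFunLike.congr_fun h x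

end Gal

end Groth.Agent.Lefpen.H712.RConv
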