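import Groth.Agent.Lefpen.H712.KLevel
import Groth.Agent.Lefpen.H712.RConv
import Groth.Agent.Lefpen.H712.LicAlg
import Groth.Agent.Vancyc.H684.UnifEt
import Groth.Agent.Lefpen.H30.CardDuality

/-!
# The local counting theorem
-/

set_option autoImplicit false
universe u
open CategoryTheory CategoryTheory.Limits AlgebraicGeometry Opposite
open scoped Groth.Agent.Etcore.EtInst
open Groth.Agent.Etcore.EtInst Groth.Agent.Etcore.HpullCalc Groth.Agent.Etcore Groth.Agent.Etcore.HQ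
open Groth.Agent.Lefpen.H712.HT Groth.Agent.Lefpen.H712.Inv Groth.Agent.Lefpen.H712.KLevel
open Groth.Agent.Vancyc.H684.UnifEt

namespace Groth.Agent.Lefpen.H712.LocalCount

attribute [local instance] Groth.Agent.Etcore.HQ.pfl

section

variable {R K Ω : Type u} [CommRing R] [IsDomain R] [IsDiscreteValuationRing R]
    (hR : EtCoh.IsStrictlyHenselianLocalRing R) [Field K] [Algebra R K] [IsFractionRing R K] [Field Ω]
    [Algebra K Ω] [IsSepClosure K Ω] [Algebra R Ω] [IsScalarTower R K Ω]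
    {X : Scheme.{u}} (f : X ⟶ Spec (CommRingCat.of R)) [IsProper f] (m : ℕ)
    (hη : SmoothOfRelativeDimension m (VanCyc.fibStr R f K))

/-- Smoothness of iterated fibres. -/
theorem smooth_fibre (m : ℕ) {S X T S' : Scheme.{u}} (f : X ⟶ S) (g : S' ⟶ S)
    (t' : T ⟶ S') (t : T ⟶ S) (h : t' ≫ g = t)
    (hs : SmoothOfRelativeDimension m (pullback.snd f g)) :
    SmoothOfRelativeDimension m (pullback.snd f t) := by
  subst h
  have : MorphismProperty.IsStableUnderBaseChange (@SmoothOfRelativeDimension m) :=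
    smoothOfRelativeDimension_isStableUnderBaseChange m
  have h2 : SmoothOfRelativeDimension m (pullback.snd (pullback.snd f g) t') :=
    this.of_isPullback (IsPullback.of_hasPullback _ _) hs
  rw [← pullbackLeftPullbackSndIso_hom_snd] at h2
  exact (MorphismProperty.cancel_left_of_respectsIso (@SmoothOfRelativeDimension m) _ _).1 h2

/-- The invariants over `R`. -/
noncomputable abbrev invR (R K : Type u) {Ω : Type u} [CommRing R] [Field K] [Algebra R K] [Field Ω]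
    [Algebra K Ω] [Algebra R Ω] [IsScalarTower R K Ω] {X : Scheme.{u}} (f : X ⟶ Spec (CommRingCat.of R))
    (M : Type) [AddCommGroup M] (q : ℕ) :
    AddSubgroup (HH (VanCyc.fib R f Ω) (EtCoh.const _ M) q) :=
  inv M f (VanCyc.toS R Ω)
    (fun σ : Ω ≃ₐ[K] Ω => Spec.map (CommRingCat.ofHom (σ : Ω →+* Ω)))
    (fun σ => VanCyc.spec_map_comp_toS (R := R) σ) q

omit [IsDomain R] [IsDiscreteValuationRing R] [IsFractionRing R K] [IsSepClosure K Ω] [IsProper f] in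
theorem card_invR (M : Type) [AddCommGroup M] (q : ℕ) :
    Nat.card (invR R K (Ω := Ω) f M q) = Nat.card (invK M Ω (VanCyc.fibStr R f K) q) := by
  refine card_inv_fibre M f (VanCyc.toS R K) (Spec.map (CommRingCat.ofHom (algebraMap K Ω)))
    (VanCyc.toS R Ω) ?_ _ _ spec_map_comp q
  rw [← Spec.map_comp, ← CommRingCat.ofHom_comp, ← IsScalarTower.algebraMap_eq]

include hR in
/-- The bound for the invariants in degree `q + 1`: `hub` is the purity bound, `hne` says that the action on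
`H^q` is trivial (`hη` with relative dimension `q + 1`). -/
theorem card_inv_mul_le [Smooth (VanCyc.fibStr R f K)] (q N : ℕ) (hN : IsUnit (N : R))
    (hB1 : ∀ q : ℕ, B1 Ω (VanCyc.fibStr R f K) (EtCoh.const _ (ZMod N)) q)
    (hne : Nat.card (invR R K (Ω := Ω) f (ZMod N) q) =
      Nat.card (HH (VanCyc.fib R f Ω) (EtCoh.const _ (ZMod N)) q))
    (hub : Nat.card (EtCoh.H (VanCyc.fib R f K) (EtCoh.const _ (ZMod N)) (q + 1)) ≤
        Nat.card (EtCoh.H X (EtCoh.const X (ZMod N)) (q + 1)) *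
          Nat.card (EtCoh.H X (EtCoh.const X (ZMod N)) (q + 2))) :
    Nat.card (HH (VanCyc.fib R f Ω) (EtCoh.const _ (ZMod N)) q) *
        Nat.card (invR R K (Ω := Ω) f (ZMod N) (q + 1)) ≤
      Nat.card (EtCoh.H X (EtCoh.const X (ZMod N)) (q + 1)) *
        Nat.card (EtCoh.H X (EtCoh.const X (ZMod N)) (q + 2)) := by
  rw [card_succ R K hR Ω _ N hN hB1 q, ← card_invR f, ← card_invR f, hne] at hub
  exact hub

include hR hη in
/-- **The local counting theorem**: if the Galois group of `K` acts trivially on `H^m` of the geometric generic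
fibre up to `ℓ^A`, then `ℓ^C H^m(X_Ω, ℤ/ℓ^ν)` comes from `H^m(X, ℤ/ℓ^ν)` for a constant `C`. -/
theorem lic (ℓ : ℕ) (hℓ : ℓ.Prime) (hℓR : IsUnit (ℓ : R))
    (hcosp : ∀ ν : ℕ, Function.Injective (HC.HC (ZMod (ℓ ^ ν)) (VanCyc.jA R f Ω) m) ∧
      Nat.card (HH X (EtCoh.const X (ZMod (ℓ ^ ν))) (m + 1)) *
          (HC.HC (ZMod (ℓ ^ ν)) (VanCyc.jA R f Ω) m).range.index =
        ℓ ^ ν * Nat.card (HH (VanCyc.fib R f Ω) (EtCoh.const _ (ZMod (ℓ ^ ν))) (m + 1)))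
    (hne : ∀ ν q : ℕ, q ≠ m → Nat.card (invR R K (Ω := Ω) f (ZMod (ℓ ^ ν)) q) =
      Nat.card (HH (VanCyc.fib R f Ω) (EtCoh.const _ (ZMod (ℓ ^ ν))) q))
    (hfX : ∀ q ν : ℕ, Finite (HH X (EtCoh.const X (ZMod (ℓ ^ ν))) q))
    (hB1 : ∀ ν q : ℕ, B1 Ω (VanCyc.fibStr R f K) (EtCoh.const _ (ZMod (ℓ ^ ν))) q)
    (hub : (m = 0 ∧ ∀ ν : ℕ, Nat.card (EtCoh.H (VanCyc.fib R f K) (EtCoh.const _ (ZMod (ℓ ^ ν))) m) ≤
        Nat.card (EtCoh.H X (EtCoh.const X (ZMod (ℓ ^ ν))) m)) ∨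
      (1 ≤ m ∧ ∀ ν : ℕ, Nat.card (EtCoh.H (VanCyc.fib R f K) (EtCoh.const _ (ZMod (ℓ ^ ν))) m) ≤
        Nat.card (EtCoh.H X (EtCoh.const X (ZMod (ℓ ^ ν))) m) *
          Nat.card (EtCoh.H X (EtCoh.const X (ZMod (ℓ ^ ν))) (m + 1))))
    (A : ℕ) (htriv : ∀ (σ : Ω ≃ₐ[K] Ω) (ν : ℕ)
      (z : HH (VanCyc.fib R f Ω) (EtCoh.const _ (ZMod (ℓ ^ ν))) m),
      ℓ ^ A • (HC.HC (ZMod (ℓ ^ ν)) (bm f (Spec.map (CommRingCat.ofHom (σ : Ω →+* Ω)))
        (VanCyc.spec_map_comp_toS (R := R) σ)) m z - z) = 0) :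
    ∃ C : ℕ, ∀ (ν : ℕ) (z : HH (VanCyc.fib R f Ω) (EtCoh.const _ (ZMod (ℓ ^ ν))) m),
      ∃ x : HH X (EtCoh.const X (ZMod (ℓ ^ ν))) m, HC.HC (ZMod (ℓ ^ ν)) (VanCyc.jA R f Ω) m x = ℓ ^ C • z := by
  have hsc : IsSepClosed Ω := IsSepClosure.sep_closed K
  have hℓν : ∀ ν : ℕ, IsUnit ((ℓ ^ ν : ℕ) : R) := fun ν => by
    rw [Nat.cast_pow]; exact hℓR.pow ν
  have hℓΩ : ∀ ν : ℕ, ((ℓ ^ ν : ℕ) : Ω) ≠ 0 := fun ν => by
    have := (hℓν ν).map (algebraMap R Ω)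
    rw [map_natCast] at this
    exact this.ne_zero
  have hpos : ∀ ν : ℕ, 0 < ℓ ^ ν := fun ν => pow_pos hℓ.pos ν
  have hfZ : ∀ q ν : ℕ, Finite (HH (VanCyc.fib R f Ω) (EtCoh.const _ (ZMod (ℓ ^ ν))) q) := fun q ν =>
    (finite_H_iff _ q).1 (Groth.Agent.Lefpen.H30.CardDuality.finite_H Ω (ℓ ^ ν) (hpos ν)
      (VanCyc.fibStr R f Ω) q)
  have hs : SmoothOfRelativeDimension m (VanCyc.fibStr R f Ω) := by
    refine smooth_fibre m f (VanCyc.toS R K) (Spec.map (CommRingCat.ofHom (algebraMap K Ω)))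
      (VanCyc.toS R Ω) ?_ hη
    rw [← Spec.map_comp, ← CommRingCat.ofHom_comp, ← IsScalarTower.algebraMap_eq]
  have := LicAlg.lic (etSys (VanCyc.fib R f Ω) ℓ hℓ.pos) (etSys X ℓ hℓ.pos) hℓ m
    (fun ν => HC.HC (ZMod (ℓ ^ ν)) (VanCyc.jA R f Ω) m)
    (fun ν => (hcosp ν).1) (fun ν => (hcosp ν).2)
    (fun ν => invR R K (Ω := Ω) f (ZMod (ℓ ^ ν)) m) ?_ A ?_
  · exact this
  · rcases hub with ⟨rfl, hub⟩ | ⟨hm, hub⟩
    · left
      intro ν
      rw [card_invR f, ← card_zero K Ω _ (ℓ ^ ν) (hB1 ν 0)]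
      exact hub ν
    · right
      intro ν
      obtain ⟨q, rfl⟩ := Nat.exists_eq_add_of_le' hm
      have hsm : Smooth (VanCyc.fibStr R f K) := SmoothOfRelativeDimension.smooth (q + 1) _
      have h1 := card_inv_mul_le (Ω := Ω) hR f q (ℓ ^ ν) (hℓν ν) (hB1 ν) (hne ν q (by omega)) (hub ν)
      have h2 := (Groth.Agent.Lefpen.H30.CardDuality.card_duality Ω (VanCyc.fibStr R f Ω) (q + 1)
        (ℓ ^ ν) (hℓΩ ν) q (q + 1 + 1) (by omega)).2
      rw [mul_comm]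
      refine le_trans (Nat.mul_le_mul_right _ (le_of_eq h2.symm)) h1
  · intro ν z
    rw [mem_inv]
    intro σ
    rw [← sub_eq_zero, map_nsmul, ← smul_sub]
    exact htriv σ ν z

end

end Groth.Agent.Lefpen.H712.LocalCount
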