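import Groth.Agent.Lefpen.H712.KC

/-!
# Invariant classes of the cohomology of a base change
-/

set_option autoImplicit false
universe u
open CategoryTheory CategoryTheory.Limits AlgebraicGeometry Opposite
open scoped Groth.Agent.Etcore.EtInst
open Groth.Agent.Etcore.EtInst Groth.Agent.Etcore.HpullCalc Groth.Agent.Etcore
open Groth.Agent.Lefpen.H712.HT

namespace Groth.Agent.Lefpen.H712.Inv

attribute [local instance] Groth.Agent.Etcore.HQ.pfl

/-- `σ` over `Spec K` -/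
theorem spec_map_comp {K Ω : Type u} [Field K] [Field Ω] [Algebra K Ω] (σ : Ω ≃ₐ[K] Ω) :
    Spec.map (CommRingCat.ofHom (σ : Ω →+* Ω)) ≫ Spec.map (CommRingCat.ofHom (algebraMap K Ω)) =
      Spec.map (CommRingCat.ofHom (algebraMap K Ω)) := by
  rw [← Spec.map_comp, ← CommRingCat.ofHom_comp]
  congr 2
  ext x
  simp

/-- Invariant classes. -/
noncomputable def inv (M : Type) [AddCommGroup M] {S X T : Scheme.{u}} (f : X ⟶ S) (t : T ⟶ S)
    {I : Type u} (φ : I → (T ⟶ T)) (hφ : ∀ a, φ a ≫ t = t) (q : ℕ) :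
    AddSubgroup (HH (pullback f t) (EtCoh.const _ M) q) :=
  ⨅ a : I, (HC.HC M (bm f (φ a) (hφ a)) q - AddMonoidHom.id _).ker

theorem mem_inv (M : Type) [AddCommGroup M] {S X T : Scheme.{u}} (f : X ⟶ S) (t : T ⟶ S)
    {I : Type u} (φ : I → (T ⟶ T)) (hφ : ∀ a, φ a ≫ t = t) (q : ℕ)
    (x : HH (pullback f t) (EtCoh.const _ M) q) :
    x ∈ inv M f t φ hφ q ↔ ∀ a, HC.HC M (bm f (φ a) (hφ a)) q x = x := by
  unfold inv
  rw [AddSubgroup.mem_iInf]
  refine forall_congr' fun a => ?_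
  rw [AddMonoidHom.mem_ker, AddMonoidHom.sub_apply, sub_eq_zero, AddMonoidHom.id_apply]

/-- Transport of the invariants between the two models. -/
theorem card_inv (M : Type) [AddCommGroup M] {S X T : Scheme.{u}} (f : X ⟶ S) (t : T ⟶ S)
    {I : Type u} (φ : I → (T ⟶ T)) (hφ : ∀ a, φ a ≫ t = t) (q : ℕ) :
    Nat.card (⨅ a : I, (rs f (EtCoh.const X M) (φ a) (hφ a) q - AddMonoidHom.id _).ker :
      AddSubgroup (HT f (EtCoh.const X M) t q)) = Nat.card (inv M f t φ hφ q) := by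
  refine Nat.card_congr (Equiv.subtypeEquiv (Equiv.ofBijective _ (KC.kc_bijective M (pullback.fst f t) q))
    fun x => ?_)
  change x ∈ (_ : AddSubgroup _) ↔ KC.kc M (pullback.fst f t) q x ∈ inv M f t φ hφ q
  rw [mem_inv, AddSubgroup.mem_iInf]
  refine forall_congr' fun a => ?_
  rw [AddMonoidHom.mem_ker, AddMonoidHom.sub_apply, sub_eq_zero, AddMonoidHom.id_apply, ← KC.kc_rs]
  exact (KC.kc_bijective M (pullback.fst f t) q).1.eq_iff.symm

/-- `HC` of an isomorphism. -/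
theorem HC_bijective_of_isIso (M : Type) [AddCommGroup M] {X Y : Scheme.{u}} (e : X ≅ Y) (q : ℕ) :
    Function.Bijective (HC.HC M e.hom q) := by
  refine Function.bijective_iff_has_inverse.2 ⟨HC.HC M e.inv q, fun x => ?_, fun x => ?_⟩
  · rw [HC.HC_HC M e.inv e.hom (𝟙 _) e.inv_hom_id, HC.HC_id]
  · rw [HC.HC_HC M e.hom e.inv (𝟙 _) e.hom_inv_id, HC.HC_id]

/-- Transport along an isomorphism compatible with the operators. -/
theorem card_inv_congr (M : Type) [AddCommGroup M] {S X T S' X' T' : Scheme.{u}} (f : X ⟶ S) (t : T ⟶ S)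
    (f' : X' ⟶ S') (t' : T' ⟶ S') {I : Type u} (φ : I → (T ⟶ T)) (hφ : ∀ a, φ a ≫ t = t)
    (φ' : I → (T' ⟶ T')) (hφ' : ∀ a, φ' a ≫ t' = t') (e : pullback f' t' ≅ pullback f t)
    (he : ∀ a, bm f' (φ' a) (hφ' a) ≫ e.hom = e.hom ≫ bm f (φ a) (hφ a)) (q : ℕ) :
    Nat.card (inv M f t φ hφ q) = Nat.card (inv M f' t' φ' hφ' q) := by
  have hb := HC_bijective_of_isIso M e q
  refine Nat.card_congr (Equiv.subtypeEquiv (Equiv.ofBijective _ hb) fun x => ?_)
  change x ∈ inv M f t φ hφ q ↔ HC.HC M e.hom q x ∈ inv M f' t' φ' hφ' q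
  rw [mem_inv, mem_inv]
  refine forall_congr' fun a => ?_
  rw [HC.HC_HC M (bm f' (φ' a) (hφ' a)) e.hom _ (he a), HC.HC_comp]
  exact hb.1.eq_iff.symm

/-- The two ways of taking a fibre. -/
theorem card_inv_fibre (M : Type) [AddCommGroup M] {S X T S' : Scheme.{u}} (f : X ⟶ S) (g : S' ⟶ S)
    (t' : T ⟶ S') (t : T ⟶ S) (h : t' ≫ g = t) {I : Type u} (φ : I → (T ⟶ T))
    (hφ : ∀ a, φ a ≫ t = t) (hφ' : ∀ a, φ a ≫ t' = t') (q : ℕ) :
    Nat.card (inv M f t φ hφ q) = Nat.card (inv M (pullback.snd f g) t' φ hφ' q) := by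
  subst h
  refine card_inv_congr M _ _ _ _ φ hφ φ hφ' (pullbackLeftPullbackSndIso f g t') (fun a => ?_) q
  apply pullback.hom_ext
  · rw [Category.assoc, Category.assoc, bm_fst, pullbackLeftPullbackSndIso_hom_fst, ← Category.assoc,
      bm_fst]
  · rw [Category.assoc, Category.assoc, bm_snd, pullbackLeftPullbackSndIso_hom_snd,
      pullbackLeftPullbackSndIso_hom_snd_assoc, bm_snd]

/-- If all operators are trivial, everything is invariant. -/
theorem card_inv_of_trivial (M : Type) [AddCommGroup M] {S X T : Scheme.{u}} (f : X ⟶ S) (t : T ⟶ S)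
    {I : Type u} (φ : I → (T ⟶ T)) (hφ : ∀ a, φ a ≫ t = t) (q : ℕ)
    (h : ∀ a x, HC.HC M (bm f (φ a) (hφ a)) q x = x) :
    Nat.card (inv M f t φ hφ q) = Nat.card (HH (pullback f t) (EtCoh.const _ M) q) := by
  have : inv M f t φ hφ q = ⊤ := by
    rw [eq_top_iff]
    intro x _
    rw [mem_inv]
    exact fun a => h a x
  rw [this]
  exact Nat.card_congr AddSubgroup.topEquiv.toEquiv

end Groth.Agent.Lefpen.H712.Inv
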