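import Groth.Agent.Etcore.HC
import Groth.Agent.Lefpen.H712.HT

/-!
# Comparison of the two functorialities for constant coefficients

`kc q : HQ (const X M) q n → H^n(Z, M)` for `q : Z ⟶ X`, bijective, with `kc (res k x) = HC k (kc x)`.
-/

set_option autoImplicit false
universe u
open CategoryTheory CategoryTheory.Limits AlgebraicGeometry Opposite Abelian
open scoped Groth.Agent.Etcore.EtInst
open Groth.Agent.Etcore.EtInst Groth.Agent.Etcore.PullCoh Groth.Agent.Etcore.HpullCalc
  Groth.Agent.Etcore.HQ Groth.Agent.Etcore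

namespace Groth.Agent.Lefpen.H712.KC

attribute [local instance] Groth.Agent.Etcore.HQ.pfl

variable {X Z Z' : Scheme.{u}} (M : Type) [AddCommGroup M]

/-- The identification of the cohomology of the pulled back constant sheaf. -/
noncomputable def kc (q : Z ⟶ X) (n : ℕ) :
    HQ (EtCoh.const X M) q n →+ HH Z (EtCoh.const Z M) n :=
  HHmap (EtCore.pullConst q M).hom n

theorem kc_bijective (q : Z ⟶ X) (n : ℕ) : Function.Bijective (kc M q n) :=
  HHmap_bijective _ n

theorem kc_res (k : Z' ⟶ Z) (q : Z ⟶ X) (q' : Z' ⟶ X) (h : k ≫ q = q') (n : ℕ)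
    (x : HQ (EtCoh.const X M) q n) :
    kc M q' n (res (EtCoh.const X M) k h n x) = HC.HC M k n (kc M q n x) := by
  unfold kc
  rw [res_apply, ← HHmap_comp, ← pullConst_comp k q q' h M, HHmap_comp, ← hp_map]
  rfl

theorem kc_hp (q : Z ⟶ X) (n : ℕ) (x : HH X (EtCoh.const X M) n) :
    kc M q n (hp q (EtCoh.const X M) n x) = HC.HC M q n x := rfl

open Groth.Agent.Lefpen.H712.HT in
theorem kc_rs {Y T T' : Scheme.{u}} (f : X ⟶ Y) {t : T ⟶ Y} {t' : T' ⟶ Y} (φ : T' ⟶ T)
    (h : φ ≫ t = t') (n : ℕ) (x : HT f (EtCoh.const X M) t n) :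
    kc M (pullback.fst f t') n (rs f (EtCoh.const X M) φ h n x) =
      HC.HC M (bm f φ h) n (kc M (pullback.fst f t) n x) :=
  kc_res M _ _ _ _ n x

end Groth.Agent.Lefpen.H712.KC
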