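import Groth.Agent.Lefpen.H712.TwoColEt
import Groth.Agent.Lefpen.H712.Inv
import Groth.Agent.Lefpen.H20.B2
import Groth.Agent.Sga4h.ConsWO
import Groth.Agent.Etrest.ConstBasic
import Groth.Agent.S3097

/-!
# Cohomology over the fraction field of a strictly henselian discrete valuation ring
-/

set_option autoImplicit false
universe u
open CategoryTheory CategoryTheory.Limits AlgebraicGeometry Opposite
open scoped Groth.Agent.Etcore.EtInst
open Groth.Agent.Etcore.EtInst Groth.Agent.Etcore.HpullCalc Groth.Agent.Etcore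
open Groth.Agent.Lefpen.H712.HT Groth.Agent.Lefpen.H712.Inv

namespace Groth.Agent.Lefpen.H712.KLevel

attribute [local instance] Groth.Agent.Etcore.HQ.pfl

/-- (B1) sections of `R^q f_* F` over `Spec K` are the Galois invariant classes. -/
def B1 {K : Type u} [Field K] (Ω : Type u) [Field Ω] [Algebra K Ω]
    {X : Scheme.{u}} (f : X ⟶ Spec (CommRingCat.of K)) (F : EtCoh.Ab X) (q : ℕ) : Prop :=
  Nonempty (EtCoh.H (Spec (CommRingCat.of K)) ((EtCoh.Rpush f q).obj F) 0 ≃+
      (⨅ σ : Ω ≃ₐ[K] Ω, (rs f F (Spec.map (CommRingCat.ofHom (σ : Ω →+* Ω))) (spec_map_comp σ) q -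
        AddMonoidHom.id (HT f F (Spec.map (CommRingCat.ofHom (algebraMap K Ω))) q)).ker :
        AddSubgroup (HT f F (Spec.map (CommRingCat.ofHom (algebraMap K Ω))) q)))

/-- The Galois invariant classes. -/
noncomputable abbrev invK (M : Type) [AddCommGroup M] {K : Type u} [Field K] (Ω : Type u) [Field Ω]
    [Algebra K Ω] {X : Scheme.{u}} (f : X ⟶ Spec (CommRingCat.of K)) (q : ℕ) :
    AddSubgroup (HH (pullback f (Spec.map (CommRingCat.ofHom (algebraMap K Ω)))) (EtCoh.const _ M) q) :=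
  inv M f (Spec.map (CommRingCat.ofHom (algebraMap K Ω)))
    (fun σ : Ω ≃ₐ[K] Ω => Spec.map (CommRingCat.ofHom (σ : Ω →+* Ω))) spec_map_comp q

section

variable (R K : Type u) [CommRing R] [IsDomain R] [IsDiscreteValuationRing R]
    (hR : EtCoh.IsStrictlyHenselianLocalRing R) [Field K] [Algebra R K] [IsFractionRing R K]
    (Ω : Type u) [Field Ω] [Algebra K Ω]
    {X : Scheme.{u}} (f : X ⟶ Spec (CommRingCat.of K)) 
    (N : ℕ) (hN : IsUnit (N : R))

theorem card_zero (hB1 : B1 Ω f (EtCoh.const X (ZMod N)) 0) :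
    Nat.card (EtCoh.H X (EtCoh.const X (ZMod N)) 0) = Nat.card (invK (ZMod N) Ω f 0) := by
  obtain ⟨e⟩ := hB1
  rw [TwoColEt.card_H_zero f, Nat.card_congr e.toEquiv]
  exact card_inv (ZMod N) f _ _ spec_map_comp 0

include hR hN in
theorem card_succ [IsProper f] [Smooth f] (hB1 : ∀ q, B1 Ω f (EtCoh.const X (ZMod N)) q) (q : ℕ) :
    Nat.card (EtCoh.H X (EtCoh.const X (ZMod N)) (q + 1)) =
      Nat.card (invK (ZMod N) Ω f q) * Nat.card (invK (ZMod N) Ω f (q + 1)) := by
  have hN0 : 0 < N := Groth.Agent.Sga4h.TameFieldK5.pos_of_isUnit hN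
  have : NeZero N := ⟨hN0.ne'⟩
  have hk : EtCoh.KilledBy N (EtCoh.const X (ZMod N)) :=
    Groth.Agent.Etrest.ConstBasic.killedBy_const X (ZMod N) N (fun a => by simp)
  have hlc : EtCoh.IsFiniteLocallyConstant (EtCoh.const X (ZMod N)) :=
    Groth.Agent.Etrest.ConstBasic.isFiniteLocallyConstant_const X (ZMod N)
  have hNK : IsUnit (N : Γ(Spec (CommRingCat.of K), ⊤)) := by
    have h1 := hN.map (algebraMap R K)
    have h2 := h1.map (Scheme.ΓSpecIso (CommRingCat.of K)).inv.hom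
    simpa using h2
  have hr : ∀ q, EtCoh.KilledBy N ((EtCoh.Rpush f q).obj (EtCoh.const X (ZMod N))) := fun q =>
    Groth.Agent.Sga4h.ConsWO.killedBy_rpush f hk q
  rw [TwoColEt.card_H_succ f _ q fun p q hp =>
    Groth.Agent.Sga4h.TameField.K1 R K hR N hN _ (hr q) p hp]
  have h0 : ∀ q, Nat.card (EtCoh.H (Spec (CommRingCat.of K))
      ((EtCoh.Rpush f q).obj (EtCoh.const X (ZMod N))) 0) = Nat.card (invK (ZMod N) Ω f q) := by
    intro q
    obtain ⟨e⟩ := hB1 q
    rw [Nat.card_congr e.toEquiv]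
    exact card_inv (ZMod N) f _ _ spec_map_comp q
  rw [(Groth.Agent.Lefpen.H20.B2.euler R K hR N hN _ (Groth.Agent.S3097.result f N hNK _ hlc hk q)
    (hr q)).2.2, h0, h0]

end

end Groth.Agent.Lefpen.H712.KLevel
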