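import Groth.Agent.Lefpen.H712.LocalCount
import Groth.Agent.Lefpen.H712.ActsQ
import Groth.Agent.Lefpen.H370.GalCmp
import Groth.Agent.Lefpen.H370.InertiaAll
import Groth.Agent.Sga7.H744.HcFun

/-!
# The local theorem over the trait of a pencil

`gR : X'_Ω ⟶ X'_R` the projection, `(R, t)` the trait at `t = c` inside a valuation ring `W` of `Ω`.  If the
inertia group acts trivially on the rational cohomology of degree `n - 1` of `X'_Ω`, then `ℓ^C H^(n-1)(X'_Ω, ℤ/ℓ^ν)`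
comes from `X'_R`.
-/

set_option autoImplicit false
universe u
open CategoryTheory CategoryTheory.Limits AlgebraicGeometry Opposite
open scoped Groth.Agent.Etcore.EtInst
open Groth.Agent.Etcore.EtInst Groth.Agent.Etcore.HpullCalc Groth.Agent.Etcore Groth.Agent.Etcore.HQ
open Groth.Agent.Lefpen.H712.HT Groth.Agent.Lefpen.H712.Inv Groth.Agent.Lefpen.H712.KLevel
open Groth.Agent.Lefpen.H712.LocalCount
open Groth.Agent.Lefpen.H713.Trait1 Groth.Agent.Lefpen.H713.RingPt Groth.Agent.Lefpen.H370.TraitGeo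
open Groth.Agent.Lefpen.H370.GalCmp LefPen

namespace Groth.Agent.Lefpen.H712.LicTrait

theorem hc_eq {X Y : Scheme.{u}} (f : X ⟶ Y) (M : Type) [AddCommGroup M] (q : ℕ)
    (x : HH Y (EtCoh.const Y M) q) : Groth.Agent.Sga7.H744.HcFun.hc f M q x = HC.HC M f q x := rfl

section

variable {k : Type u} [Field k] {X' : Scheme.{u}} {ρ : X' ⟶ CohB1.ProjSpace 1 k} {c : k}
  {Ω : Type u} [Field Ω] [Algebra (RatFunc k) Ω] {W : ValuationSubring Ω}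
  {R : Type u} [CommRing R] [IsLocalRing R] [Algebra k R] [Algebra R Ω] {t : R}

theorem geoIso_gR (h : IsTraitIn k c W R t) (gR : LefMon.geomFibre k ρ Ω ⟶ XR ρ R t)
    (h1 : gR ≫ qR ρ R t = pullback.fst ρ (LefMon.geomGenPt k Ω))
    (h2 : gR ≫ fR ρ R t = pullback.snd ρ (LefMon.geomGenPt k Ω) ≫ Spec.map (CommRingCat.ofHom (algebraMap R Ω))) :
    (geoIso ρ h).hom ≫ gR = VanCyc.jA R (fR ρ R t) Ω := by
  apply pullback.hom_ext
  · rw [Category.assoc]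
    exact (congrArg (fun e => (geoIso ρ h).hom ≫ e) h1).trans (geoIso_fst ρ h)
  · rw [Category.assoc]
    refine (congrArg (fun e => (geoIso ρ h).hom ≫ e) h2).trans ?_
    rw [geoIso_snd_assoc]
    exact pullback.condition.symm

end

section main

variable {k : Type u} [Field k] [IsAlgClosed k] {r d n : ℕ} {X X' : Scheme.{u}} {i : X ⟶ CohB1.ProjSpace r k}
  {F G : Form r k d} {b : X' ⟶ X} {ρ : X' ⟶ CohB1.ProjSpace 1 k} [IsClosedImmersion i]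
  [IrreducibleSpace X] [SmoothOfRelativeDimension n (i ≫ CohB1.ProjSpace.toSpec r k)]
  {c : k} {Ω : Type u} [Field Ω] [Algebra (RatFunc k) Ω] [IsSepClosure (RatFunc k) Ω] {W : ValuationSubring Ω}
  {R : Type u} [CommRing R] [IsDomain R] [IsDiscreteValuationRing R] [Algebra k R] [Algebra R Ω] {t : R}
  (K : Type u) [Field K] [Algebra R K] [IsFractionRing R K] [Algebra K Ω] [IsScalarTower R K Ω]

omit [IsAlgClosed k] [IsSepClosure (RatFunc k) Ω] [IsFractionRing R K] [IsDomain R]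
  [IsDiscreteValuationRing R] in
/-- The Galois action over the trait, on the geometric generic fibre. -/
theorem HC_bm_geoIso [IsLocalRing R] (h : IsTraitIn k c W R t) (M : Type) [AddCommGroup M] (q : ℕ) (σ : Ω ≃ₐ[RatFunc k] Ω)
    (s : Ω ≃ₐ[K] Ω) (hs : ∀ x, s x = σ x)
    (z : HH (LefMon.geomFibre k ρ Ω) (EtCoh.const _ M) q) :
    HC.HC M (bm (fR ρ R t) (Spec.map (CommRingCat.ofHom (s : Ω →+* Ω)))
        (VanCyc.spec_map_comp_toS (R := R) s)) q (HC.HC M (geoIso ρ h).hom q z) =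
      HC.HC M (geoIso ρ h).hom q (HC.HC M (LefMon.galAct k ρ Ω σ) q z) := by
  rw [← RLevel.galGeom_eq_bm, HC.HC_HC M _ _ _ (galGeom_geoIso ρ h σ s hs), HC.HC_comp]

include K in
/-- **The local theorem for a pencil.** -/
theorem lic_trait (hn : 1 ≤ n) (hL : IsLefschetzPencil k n i d F G)
    (hρ : LefMon.IsPencilFibration i F G b ρ) (h : IsTraitIn k c W R t)
    (hex : ∀ σ : Ω ≃ₐ[RatFunc k] Ω, PreservesFiniteLimits (EtCoh.pull (LefMon.galAct k ρ Ω σ)))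
    (ℓ : ℕ) (hℓ : ℓ.Prime) (hℓk : (ℓ : k) ≠ 0)
    (hcosp : ∀ ν : ℕ, Function.Injective (HC.HC (ZMod (ℓ ^ ν)) (VanCyc.jA R (fR ρ R t) Ω) (n - 1)) ∧
      Nat.card (HH (XR ρ R t) (EtCoh.const _ (ZMod (ℓ ^ ν))) (n - 1 + 1)) *
          (HC.HC (ZMod (ℓ ^ ν)) (VanCyc.jA R (fR ρ R t) Ω) (n - 1)).range.index =
        ℓ ^ ν * Nat.card (HH (VanCyc.fib R (fR ρ R t) Ω) (EtCoh.const _ (ZMod (ℓ ^ ν))) (n - 1 + 1)))
    (hne : ∀ ν q : ℕ, q ≠ n - 1 → Nat.card (invR R K (Ω := Ω) (fR ρ R t) (ZMod (ℓ ^ ν)) q) =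
      Nat.card (HH (VanCyc.fib R (fR ρ R t) Ω) (EtCoh.const _ (ZMod (ℓ ^ ν))) q))
    (hfX : ∀ q ν : ℕ, Finite (HH (XR ρ R t) (EtCoh.const _ (ZMod (ℓ ^ ν))) q))
    (hfZ : ∀ q ν : ℕ, Finite (HH (LefMon.geomFibre k ρ Ω) (EtCoh.const _ (ZMod (ℓ ^ ν))) q))
    (hB1 : ∀ ν q : ℕ, B1 Ω (VanCyc.fibStr R (fR ρ R t) K) (EtCoh.const _ (ZMod (ℓ ^ ν))) q)
    (hub : (n - 1 = 0 ∧ ∀ ν : ℕ,
        Nat.card (EtCoh.H (VanCyc.fib R (fR ρ R t) K) (EtCoh.const _ (ZMod (ℓ ^ ν))) (n - 1)) ≤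
        Nat.card (EtCoh.H (XR ρ R t) (EtCoh.const _ (ZMod (ℓ ^ ν))) (n - 1))) ∨
      (1 ≤ n - 1 ∧ ∀ ν : ℕ,
        Nat.card (EtCoh.H (VanCyc.fib R (fR ρ R t) K) (EtCoh.const _ (ZMod (ℓ ^ ν))) (n - 1)) ≤
        Nat.card (EtCoh.H (XR ρ R t) (EtCoh.const _ (ZMod (ℓ ^ ν))) (n - 1)) *
          Nat.card (EtCoh.H (XR ρ R t) (EtCoh.const _ (ZMod (ℓ ^ ν))) (n - 1 + 1))))
    (htriv : ∀ σ : Ω ≃ₐ[RatFunc k] Ω, SGA7.IsInertia W σ →
      EtAdic.ActsTriviallyQ ℓ (fun ν => EtAdic.Hmap ℓ (LefMon.galAct k ρ Ω σ) (hex σ) (n - 1) ν))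
    (gR : LefMon.geomFibre k ρ Ω ⟶ XR ρ R t)
    (h1 : gR ≫ qR ρ R t = pullback.fst ρ (LefMon.geomGenPt k Ω))
    (h2 : gR ≫ fR ρ R t = pullback.snd ρ (LefMon.geomGenPt k Ω) ≫ Spec.map (CommRingCat.ofHom (algebraMap R Ω))) :
    ∃ C : ℕ, ∀ (ν : ℕ) (z : HH (LefMon.geomFibre k ρ Ω) (EtCoh.const _ (ZMod (ℓ ^ ν))) (n - 1)),
      ∃ x : HH (XR ρ R t) (EtCoh.const _ (ZMod (ℓ ^ ν))) (n - 1),
        Groth.Agent.Sga7.H744.HcFun.hc gR (ZMod (ℓ ^ ν)) (n - 1) x = ℓ ^ C • z := by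
  have hsc : IsSepClosure K Ω := h.isSepClosure K
  have hprop : IsProper (fR ρ R t) := isProper_fR hρ R t
  have hR : EtCoh.IsStrictlyHenselianLocalRing R := ⟨h.strictLoc.henselian, h.strictLoc.sepClosed⟩
  have hη : SmoothOfRelativeDimension (n - 1) (VanCyc.fibStr R (fR ρ R t) K) :=
    relDim_generic hρ hL hn h.toIsTrait K
  have hℓR : IsUnit (ℓ : R) := by
    have h3 := (IsUnit.mk0 (ℓ : k) hℓk).map (algebraMap k R)
    rwa [map_natCast] at h3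
  obtain ⟨A, hA⟩ := ActsQ.exists_uniform hℓ hfZ (n - 1)
  have htriv' : ∀ (s : Ω ≃ₐ[K] Ω) (ν : ℕ)
      (z : HH (VanCyc.fib R (fR ρ R t) Ω) (EtCoh.const _ (ZMod (ℓ ^ ν))) (n - 1)),
      ℓ ^ A • (HC.HC (ZMod (ℓ ^ ν)) (bm (fR ρ R t) (Spec.map (CommRingCat.ofHom (s : Ω →+* Ω)))
        (VanCyc.spec_map_comp_toS (R := R) s)) (n - 1) z - z) = 0 := by
    intro s ν z
    obtain ⟨σ, hσ, hI⟩ := Groth.Agent.Lefpen.H370.InertiaAll.exists_restrict h s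
    obtain ⟨z, rfl⟩ := (Inv.HC_bijective_of_isIso (ZMod (ℓ ^ ν)) (geoIso ρ h) (n - 1)).2 z
    rw [HC_bm_geoIso K h (ZMod (ℓ ^ ν)) (n - 1) σ s (fun x => (hσ x).symm) z, ← map_sub, ← map_nsmul,
      hA (LefMon.galAct k ρ Ω σ) (hex σ) (htriv σ hI) ν z, map_zero]
  obtain ⟨C, hC⟩ := LocalCount.lic (K := K) (Ω := Ω) hR (fR ρ R t) (n - 1) hη ℓ hℓ hℓR hcosp hne hfX hB1 hub A
    htriv'
  refine ⟨C, fun ν z => ?_⟩
  obtain ⟨x, hx⟩ := hC ν (HC.HC (ZMod (ℓ ^ ν)) (geoIso ρ h).hom (n - 1) z)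
  refine ⟨x, (Inv.HC_bijective_of_isIso (ZMod (ℓ ^ ν)) (geoIso ρ h) (n - 1)).1 ?_⟩
  rw [map_nsmul, ← hx, hc_eq, HC.HC_HC (ZMod (ℓ ^ ν)) _ _ _ (geoIso_gR h gR h1 h2)]

end main

end Groth.Agent.Lefpen.H712.LicTrait
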