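import Groth.Agent.Etcore.HpullViaEq
import Groth.Agent.Lefpen.H712.Inv
import Groth.Agent.Lefpen.H712.Numerics
import Groth.Prelude.Def_VanCyc

/-!
# The geometric generic fibre of a scheme over a discrete valuation ring: invariants
-/

set_option autoImplicit false
universe u
open CategoryTheory CategoryTheory.Limits AlgebraicGeometry Opposite
open scoped Groth.Agent.Etcore.EtInst
open Groth.Agent.Etcore.EtInst Groth.Agent.Etcore.HpullCalc Groth.Agent.Etcore Groth.Agent.Etcore.HQ
open Groth.Agent.Lefpen.H712.HT Groth.Agent.Lefpen.H712.Inv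

namespace Groth.Agent.Lefpen.H712.RLevel

attribute [local instance] Groth.Agent.Etcore.HQ.pfl

section Gal

variable {R : Type u} [CommRing R] {K : Type u} [Field K] [Algebra R K] {Ω : Type u} [Field Ω]
  [Algebra K Ω] [Algebra R Ω] [IsScalarTower R K Ω]
  {X : Scheme.{u}} (f : X ⟶ Spec (CommRingCat.of R))

theorem galGeom_eq_bm (σ : Ω ≃ₐ[K] Ω) : VanCyc.galGeom f σ =
    bm f (Spec.map (CommRingCat.ofHom (σ : Ω →+* Ω))) (VanCyc.spec_map_comp_toS (R := R) σ) := by
  apply pullback.hom_ext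
  · rw [bm_fst, VanCyc.galGeom_jA]
  · rw [bm_snd]
    simp only [VanCyc.galGeom, pullback.map, pullback.lift_snd]

/-- the fast version of `galH` -/
noncomputable def galR (σ : Ω ≃ₐ[K] Ω) (F : EtCoh.Ab X) (q : ℕ) :
    HQ F (VanCyc.jA R f Ω) q →+ HQ F (VanCyc.jA R f Ω) q :=
  hpVia (VanCyc.galGeom f σ) (VanCyc.jA R f Ω) (VanCyc.jA R f Ω) (VanCyc.galGeom_jA f σ) F q

theorem galR_eq_rs (σ : Ω ≃ₐ[K] Ω) (F : EtCoh.Ab X) (q : ℕ) (x : HQ F (VanCyc.jA R f Ω) q) :
    galR f σ F q x = rs f F (Spec.map (CommRingCat.ofHom (σ : Ω →+* Ω)))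
      (VanCyc.spec_map_comp_toS (R := R) σ) q x := by
  refine (hpVia_apply_th _ _ _ _ _ _ _).trans ((res_apply F _ _ q x).symm.trans ?_)
  exact res_congr F (galGeom_eq_bm f σ) _ _ q x

theorem HC_eq_of_galR (M : Type) [AddCommGroup M] (σ : Ω ≃ₐ[K] Ω) (q : ℕ)
    (h : ∀ x, galR f σ (EtCoh.const X M) q x = x)
    (x : HH (VanCyc.fib R f Ω) (EtCoh.const _ M) q) :
    HC.HC M (bm f (Spec.map (CommRingCat.ofHom (σ : Ω →+* Ω)))
      (VanCyc.spec_map_comp_toS (R := R) σ)) q x = x := by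
  obtain ⟨y, rfl⟩ := (KC.kc_bijective M (VanCyc.jA R f Ω) q).2 x
  rw [← KC.kc_rs, ← galR_eq_rs, h]

end Gal

section Abs

/-- Transport of an exact sequence to other models: injectivity and index. -/
theorem transfer {A M A' M' : Type*} [AddCommGroup A] [AddCommGroup M] [AddCommGroup A']
    [AddCommGroup M'] (s : A →+ M) (s' : A' →+ M') (a : A ≃+ A') (e : M ≃+ M')
    (h : ∀ x, e (s x) = s' (a x)) :
    (Function.Injective s → Function.Injective s') ∧ s'.range.index = s.range.index := by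
  constructor
  · intro hs x y hxy
    obtain ⟨x, rfl⟩ := a.surjective x
    obtain ⟨y, rfl⟩ := a.surjective y
    rw [← h, ← h] at hxy
    rw [hs (e.injective hxy)]
  · have e1 : s'.range.comap e.toAddMonoidHom = s.range := by
      ext x
      constructor
      · rintro ⟨y, hy⟩
        obtain ⟨y, rfl⟩ := a.surjective y
        rw [← h] at hy
        exact ⟨y, e.injective hy⟩
      · rintro ⟨y, rfl⟩
        exact ⟨a y, (h y).symm⟩
    rw [← e1]
    exact (AddSubgroup.index_comap_of_surjective _ e.surjective).symm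

end Abs

/-- The comparison for constant coefficients as an equivalence. -/
noncomputable def kcE {X : Scheme.{u}} (M : Type) [AddCommGroup M] {Z : Scheme.{u}} (j : Z ⟶ X) (q : ℕ) :
    HQ (EtCoh.const X M) j q ≃+ HH Z (EtCoh.const Z M) q :=
  AddEquiv.ofBijective (KC.kc M j q) (KC.kc_bijective M j q)

theorem kcE_hp {X : Scheme.{u}} (M : Type) [AddCommGroup M] {Z : Scheme.{u}} (j : Z ⟶ X) (q : ℕ)
    (x : HH X (EtCoh.const X M) q) : kcE M j q (hp j (EtCoh.const X M) q x) = HC.HC M j q x := rfl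

end Groth.Agent.Lefpen.H712.RLevel
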