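import Groth.Agent.Lefpen.H712.Univ

/-!
# Change of the spanning forms in a family of hypersurface sections
-/

set_option autoImplicit false
universe u

open CategoryTheory AlgebraicGeometry Limits TopologicalSpace Opposite

namespace Groth.Agent.Lefpen.H712.Reindex

open LefPen Groth.Agent.Lefpen.H879.Lin Groth.Agent.Lefpen.H712.FamB Groth.Agent.Lefpen.H727.Compact
  Groth.Agent.Divis.IdealComap Groth.Agent.Lefpen.H705.SecIdeal Groth.Agent.Lefpen.H705.HypIdeal
  Groth.Agent.Fdesc.LocGen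

variable {r : ℕ} {k : Type u} [Field k] {d : ℕ} {X : Scheme.{u}} (i : X ⟶ CohB1.ProjSpace r k)
  {T : Scheme.{u}} (b : T ⟶ Spec (CommRingCat.of k)) {ι κ : Type*} [Fintype ι] [Fintype κ]

theorem appTop_cst {W : Scheme.{u}} (f : W ⟶ T) (c : k) :
    f.appTop.hom (cst b ⊤ c) = cst (f ≫ b) ⊤ c := by
  unfold cst cstHom
  have h1 : T.presheaf.map (homOfLE (le_top : (⊤ : T.Opens) ≤ ⊤)).op = 𝟙 _ := T.presheaf.map_id _
  have h2 : W.presheaf.map (homOfLE (le_top : (⊤ : W.Opens) ≤ ⊤)).op = 𝟙 _ := W.presheaf.map_id _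
  rw [h1, h2, Category.comp_id, Category.comp_id, ← CommRingCat.comp_apply, Category.assoc,
    Scheme.Hom.comp_appTop]

/-- **Change of forms.** -/
theorem idl_reindex (γ : κ → Γ(T, ⊤)) (G : κ → Form r k d) (B : ι → Form r k d) (M : κ → ι → k)
    (hG : ∀ j, G j = ∑ a, M j a • B a) :
    idl i b (fun a => ∑ j, cst b ⊤ (M j a) * γ j) B = idl i b γ G := by
  unfold idl
  refine ext_of_chart (pW i b) fun l U hU => ?_
  rw [linIdeal_ideal_of_le _ _ _ l U hU, linIdeal_ideal_of_le _ _ _ l U hU]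
  congr 2
  unfold lineqn
  have h1 : ∀ j, eqn (pW i b) l U.1 hU (G j) =
      ∑ a, cst (pW i b ≫ CohB1.ProjSpace.toSpec r k) U.1 (M j a) * eqn (pW i b) l U.1 hU (B a) := by
    intro j
    rw [hG, eqn_sum]
  simp only [h1, Finset.mul_sum, map_sum, Finset.sum_mul, map_mul]
  rw [Finset.sum_comm]
  refine Finset.sum_congr rfl fun j _ => Finset.sum_congr rfl fun a _ => ?_
  have h2 : ores (le_top : U.1 ≤ ⊤)
      ((pullback.snd (i ≫ CohB1.ProjSpace.toSpec r k) b).appTop.hom (cst b ⊤ (M j a))) =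
      cst (pW i b ≫ CohB1.ProjSpace.toSpec r k) U.1 (M j a) := by
    rw [appTop_cst]
    have h3 : pullback.snd (i ≫ CohB1.ProjSpace.toSpec r k) b ≫ b =
        pW i b ≫ CohB1.ProjSpace.toSpec r k := by
      rw [← pullback.condition, Category.assoc]
    rw [← cst_res _ (le_top : U.1 ≤ ⊤)]
    unfold ores
    congr 2
    rw [h3]
  rw [h2]
  ring

end Groth.Agent.Lefpen.H712.Reindex
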