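import Groth.Agent.EtpbcA.CdLeray
import Mathlib.GroupTheory.Index

/-!
# The two-column Leray count

`L ⊣ G`, `L` preserving monomorphisms, `A` with enough injectives.  If `Ext^p(P, R^q G F) = 0` for all
`p ≥ 2` and all `q`, then `|Ext^{n+1}(L P, F)| = |Ext^1(P, R^n G F)| * |Hom(P, R^{n+1} G F)|`.
-/

set_option autoImplicit false
universe w w' v u v' u'

open CategoryTheory CategoryTheory.Limits CategoryTheory.Abelian Groth.Agent.EtpbcA.CdShift
  Groth.Agent.EtpbcA.CdLeray

namespace Groth.Agent.Lefpen.H712.TwoCol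

section ext

variable {C : Type u} [Category.{v} C] [Abelian C] [HasExt.{w} C]

/-- `Hom(P, X₃) → Ext^1(P, X₁)` -/
noncomputable def del {S : ShortComplex C} (hS : S.ShortExact) (P : C) :
    (P ⟶ S.X₃) →+ Ext.{w} P S.X₁ 1 where
  toFun f := (Ext.mk₀ f).comp hS.extClass (zero_add 1)
  map_zero' := by rw [Ext.mk₀_zero, Ext.zero_comp]
  map_add' f g := by rw [Ext.mk₀_add, Ext.add_comp]

theorem del_apply {S : ShortComplex C} (hS : S.ShortExact) (P : C) (f : P ⟶ S.X₃) :
    del.{w} hS P f = (Ext.mk₀ f).comp hS.extClass (zero_add 1) := rfl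

theorem del_eq_zero_iff {S : ShortComplex C} (hS : S.ShortExact) (P : C) (f : P ⟶ S.X₃) :
    del.{w} hS P f = 0 ↔ ∃ g : P ⟶ S.X₂, g ≫ S.g = f := by
  constructor
  · intro h
    obtain ⟨y, hy⟩ := Ext.covariant_sequence_exact₃ P hS (Ext.mk₀ f) (zero_add 1) h
    obtain ⟨g, rfl⟩ := Ext.addEquiv₀.symm.surjective y
    refine ⟨g, (Ext.mk₀_bijective _ _).1 ?_⟩
    rw [← hy, ← Ext.mk₀_comp_mk₀]
    rfl
  · rintro ⟨g, rfl⟩
    rw [del_apply, ← Ext.mk₀_comp_mk₀, Ext.comp_assoc_of_second_deg_zero,
      ShortComplex.ShortExact.comp_extClass, Ext.comp_zero]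

theorem del_surjective {S : ShortComplex C} (hS : S.ShortExact) (P : C)
    (h2 : Subsingleton (Ext.{w} P S.X₂ 1)) : Function.Surjective (del.{w} hS P) := by
  intro x
  obtain ⟨y, rfl⟩ := Ext.covariant_sequence_exact₁ P hS x (Subsingleton.elim _ _) (zero_add 1)
  obtain ⟨f, rfl⟩ := Ext.addEquiv₀.symm.surjective y
  exact ⟨f, rfl⟩

/-- The iso on `Ext` induced by an iso of the second variable. -/
theorem card_ext_congr (P : C) {Y Y' : C} (e : Y ≅ Y') (n : ℕ) :
    Nat.card (Ext.{w} P Y n) = Nat.card (Ext.{w} P Y' n) :=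
  Nat.card_congr
    { toFun := fun x => x.comp (Ext.mk₀ e.hom) (add_zero n)
      invFun := fun x => x.comp (Ext.mk₀ e.inv) (add_zero n)
      left_inv := fun x => by
        beta_reduce
        rw [Ext.comp_assoc_of_second_deg_zero, Ext.mk₀_comp_mk₀, e.hom_inv_id, Ext.comp_mk₀_id]
      right_inv := fun x => by
        beta_reduce
        rw [Ext.comp_assoc_of_second_deg_zero, Ext.mk₀_comp_mk₀, e.inv_hom_id, Ext.comp_mk₀_id] }

omit [Abelian C] [HasExt.{w} C] in
theorem card_hom_congr (P : C) {Y Y' : C} (e : Y ≅ Y') :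
    Nat.card (P ⟶ Y) = Nat.card (P ⟶ Y') :=
  Nat.card_congr
    { toFun := fun x => x ≫ e.hom
      invFun := fun x => x ≫ e.inv
      left_inv := fun x => by simp
      right_inv := fun x => by simp }

/-- shift along a short exact sequence whose middle term has no cohomology -/
theorem card_ext_shift {S : ShortComplex C} (hS : S.ShortExact) (P : C) (n : ℕ)
    (h1 : Subsingleton (Ext.{w} P S.X₂ n)) (h2 : Subsingleton (Ext.{w} P S.X₂ (n + 1))) :
    Nat.card (Ext.{w} P S.X₃ n) = Nat.card (Ext.{w} P S.X₁ (n + 1)) := by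
  refine Nat.card_eq_of_bijective
    (fun x : Ext.{w} P S.X₃ n => x.comp hS.extClass rfl) ⟨?_, ?_⟩
  · intro x y h
    have h0 : (x - y).comp hS.extClass (rfl : n + 1 = n + 1) = 0 := by
      rw [sub_eq_add_neg, Ext.add_comp, Ext.neg_comp]
      exact add_neg_eq_zero.2 h
    obtain ⟨z, hz⟩ := Ext.covariant_sequence_exact₃ P hS (x - y) rfl h0
    rw [Subsingleton.elim z 0, Ext.zero_comp] at hz
    exact sub_eq_zero.1 hz.symm
  · intro x
    obtain ⟨y, hy⟩ := Ext.covariant_sequence_exact₁ P hS x (Subsingleton.elim _ _) rfl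
    exact ⟨y, hy⟩

/-- shift along a short exact sequence: `Ext^n(P, X₂) = Ext^n(P, X₃)` -/
theorem card_ext_right {S : ShortComplex C} (hS : S.ShortExact) (P : C) (n : ℕ)
    (h1 : Subsingleton (Ext.{w} P S.X₁ n)) (h2 : Subsingleton (Ext.{w} P S.X₁ (n + 1))) :
    Nat.card (Ext.{w} P S.X₂ n) = Nat.card (Ext.{w} P S.X₃ n) := by
  refine Nat.card_eq_of_bijective
    (fun x : Ext.{w} P S.X₂ n => x.comp (Ext.mk₀ S.g) (add_zero n)) ⟨?_, ?_⟩
  · intro x y h
    have h0 : (x - y).comp (Ext.mk₀ S.g) (add_zero n) = 0 := by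
      rw [sub_eq_add_neg, Ext.add_comp, Ext.neg_comp]
      exact add_neg_eq_zero.2 h
    obtain ⟨z, hz⟩ := Ext.covariant_sequence_exact₂ P hS (x - y) h0
    rw [Subsingleton.elim z 0, Ext.zero_comp] at hz
    exact sub_eq_zero.1 hz.symm
  · intro x
    obtain ⟨y, hy⟩ := Ext.covariant_sequence_exact₃ P hS x rfl (Subsingleton.elim _ _)
    exact ⟨y, hy⟩

end ext

variable {A : Type u} [Category.{v} A] [Abelian A]
  {B : Type u'} [Category.{v'} B] [Abelian B]
variable [EnoughInjectives A] [HasExt.{w} A] [HasExt.{w'} B]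
  {L : B ⥤ A} {G : A ⥤ B} (adj : L ⊣ G) [G.Additive] [L.PreservesMonomorphisms]

omit [EnoughInjectives A] [L.PreservesMonomorphisms] in
include adj in
theorem count_one (P : B) {S : ShortComplex A} (hS : S.ShortExact) (hI : Injective S.X₂)
    (hGI : Injective (G.obj S.X₂)) [PreservesFiniteLimits G]
    (him : Subsingleton (Ext.{w'} P (Abelian.image (G.map S.g)) 1)) :
    Nat.card (Ext.{w} (L.obj P) S.X₁ 1) =
      Nat.card (Ext.{w'} P (G.obj S.X₁) 1) * Nat.card (P ⟶ cokernel (G.map S.g)) := by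
  -- the two subgroups of `Hom(P, G Q)`
  let c : (P ⟶ G.obj S.X₃) →+ (P ⟶ cokernel (G.map S.g)) :=
    { toFun := fun f => f ≫ cokernel.π (G.map S.g)
      map_zero' := zero_comp
      map_add' := fun f g => Preadditive.add_comp _ _ _ _ _ _ }
  let a : (P ⟶ G.obj S.X₂) →+ (P ⟶ G.obj S.X₃) :=
    { toFun := fun f => f ≫ G.map S.g
      map_zero' := zero_comp
      map_add' := fun f g => Preadditive.add_comp _ _ _ _ _ _ }
  let K1 := c.ker
  let K0 := a.range
  have h01 : K0 ≤ K1 := by
    rintro _ ⟨f, rfl⟩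
    change (f ≫ G.map S.g) ≫ cokernel.π (G.map S.g) = 0
    rw [Category.assoc, cokernel.condition, comp_zero]
  have hc : Function.Surjective c := by
    intro f
    obtain ⟨g, hg⟩ := exists_lift_of_ext_one (shortExact₂ G S) P him f
    exact ⟨g, hg⟩
  have e1 : K1.index = Nat.card (P ⟶ cokernel (G.map S.g)) := by
    rw [AddSubgroup.index]
    exact Nat.card_congr (QuotientAddGroup.quotientKerEquivOfSurjective c hc).toEquiv
  -- `Ext^1(L P, F)`
  let d : (P ⟶ G.obj S.X₃) →+ Ext.{w} (L.obj P) S.X₁ 1 :=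
    (del.{w} hS (L.obj P)).comp
      { toFun := fun f => (adj.homEquiv _ _).symm f
        map_zero' := by
          apply (adj.homEquiv _ _).injective
          rw [Equiv.apply_symm_apply, Adjunction.homEquiv_unit, G.map_zero, comp_zero]
        map_add' := fun f g => by
          apply (adj.homEquiv _ _).injective
          rw [Equiv.apply_symm_apply, Adjunction.homEquiv_unit, G.map_add, Preadditive.comp_add,
            ← Adjunction.homEquiv_unit, ← Adjunction.homEquiv_unit, Equiv.apply_symm_apply,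
            Equiv.apply_symm_apply] }
  have hd : Function.Surjective d := by
    intro x
    obtain ⟨f, hf⟩ := del_surjective hS (L.obj P) (Ext.subsingleton_of_injective _ _ _) x
    refine ⟨(adj.homEquiv _ _) f, ?_⟩
    change del.{w} hS (L.obj P) ((adj.homEquiv _ _).symm ((adj.homEquiv _ _) f)) = x
    rw [Equiv.symm_apply_apply, hf]
  have hker : d.ker = K0 := by
    ext f
    rw [AddMonoidHom.mem_ker]
    change del.{w} hS (L.obj P) ((adj.homEquiv _ _).symm f) = 0 ↔ _
    rw [del_eq_zero_iff]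
    constructor
    · rintro ⟨g, hg⟩
      refine ⟨(adj.homEquiv _ _) g, ?_⟩
      change (adj.homEquiv _ _) g ≫ G.map S.g = f
      rw [← Adjunction.homEquiv_naturality_right, hg, Equiv.apply_symm_apply]
    · rintro ⟨g, rfl⟩
      refine ⟨(adj.homEquiv _ _).symm g, ?_⟩
      exact (Adjunction.homEquiv_naturality_right_symm adj g S.g).symm
  have e0 : K0.index = Nat.card (Ext.{w} (L.obj P) S.X₁ 1) := by
    rw [← hker, AddSubgroup.index]
    exact Nat.card_congr (QuotientAddGroup.quotientKerEquivOfSurjective d hd).toEquiv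
  -- `Ext^1(P, G F)`
  let b : K1 →+ (P ⟶ Abelian.image (G.map S.g)) :=
    { toFun := fun f => kernel.lift (cokernel.π (G.map S.g)) f.1 f.2
      map_zero' := by
        rw [← cancel_mono (kernel.ι (cokernel.π (G.map S.g)))]
        exact (kernel.lift_ι _ _ _).trans zero_comp.symm
      map_add' := fun f g => by
        rw [← cancel_mono (kernel.ι (cokernel.π (G.map S.g))), Preadditive.add_comp,
          kernel.lift_ι, kernel.lift_ι, kernel.lift_ι]
        rfl }
  have hbι : ∀ f : K1, b f ≫ Abelian.image.ι (G.map S.g) = f.1 := fun f => kernel.lift_ι _ _ _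
  have hb : Function.Surjective b := by
    intro t
    refine ⟨⟨t ≫ Abelian.image.ι (G.map S.g), ?_⟩, ?_⟩
    · change (t ≫ Abelian.image.ι (G.map S.g)) ≫ cokernel.π (G.map S.g) = 0
      rw [Category.assoc, w2, comp_zero]
    · rw [← cancel_mono (Abelian.image.ι (G.map S.g)), hbι]
  let e : K1 →+ Ext.{w'} P (G.obj S.X₁) 1 := (del.{w'} (shortExact₁ G hS) P).comp b
  have he : Function.Surjective e :=
    (del_surjective (shortExact₁ G hS) P (Ext.subsingleton_of_injective _ _ _)).comp hb
  have hek : e.ker = K0.addSubgroupOf K1 := by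
    ext f
    rw [AddMonoidHom.mem_ker, AddSubgroup.mem_addSubgroupOf]
    change del.{w'} (shortExact₁ G hS) P (b f) = 0 ↔ _
    rw [del_eq_zero_iff]
    constructor
    · rintro ⟨g, hg⟩
      refine ⟨g, ?_⟩
      change g ≫ G.map S.g = f.1
      have hg' : g ≫ Abelian.factorThruImage (G.map S.g) = b f := hg
      rw [← hbι f, ← hg', Category.assoc, Abelian.image.fac]
    · rintro ⟨g, hg⟩
      refine ⟨g, ?_⟩
      change g ≫ Abelian.factorThruImage (G.map S.g) = b f
      rw [← cancel_mono (Abelian.image.ι (G.map S.g)), hbι, Category.assoc, Abelian.image.fac]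
      exact hg
  have er : K0.relIndex K1 = Nat.card (Ext.{w'} P (G.obj S.X₁) 1) := by
    rw [AddSubgroup.relIndex, ← hek, AddSubgroup.index]
    exact Nat.card_congr (QuotientAddGroup.quotientKerEquivOfSurjective e he).toEquiv
  rw [← e0, ← er, ← e1]
  exact (AddSubgroup.relIndex_mul_index h01).symm

include adj in
/-- **Two-column Leray count.** -/
theorem card_ext_succ (P : B) (n : ℕ) : ∀ (F : A)
    (_ : ∀ p, 2 ≤ p → Subsingleton (Ext.{w'} P (G.obj F) p))
    (_ : ∀ p q, 2 ≤ p → Subsingleton (Ext.{w'} P ((G.rightDerived (q + 1)).obj F) p)),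
    Nat.card (Ext.{w} (L.obj P) F (n + 1)) =
      (match n with
        | 0 => Nat.card (Ext.{w'} P (G.obj F) 1)
        | n + 1 => Nat.card (Ext.{w'} P ((G.rightDerived (n + 1)).obj F) 1)) *
      Nat.card (P ⟶ (G.rightDerived (n + 1)).obj F) := by
  have : PreservesFiniteLimits G := by
    have := adj.rightAdjoint_preservesLimits
    infer_instance
  induction n with
  | zero =>
    intro F h0 _
    obtain ⟨S, hS, hI, rfl⟩ := exists_ses F
    have hGI : Injective (G.obj S.X₂) := Injective.injective_of_adjoint adj _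
    obtain ⟨e1⟩ := nonempty_shiftIso_one G hS hI
    have him : Subsingleton (Ext.{w'} P (Abelian.image (G.map S.g)) 1) :=
      ext_right (shortExact₁ G hS) P 1 (Ext.subsingleton_of_injective _ _ _) (h0 2 le_rfl)
    rw [zero_add, count_one adj P hS hI hGI him]
    exact congrArg _ (card_hom_congr P e1)
  | succ n ih =>
    intro F h0 h
    obtain ⟨S, hS, hI, rfl⟩ := exists_ses F
    have hGI : Injective (G.obj S.X₂) := Injective.injective_of_adjoint adj _
    obtain ⟨e1⟩ := nonempty_shiftIso_one G hS hI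
    have him : ∀ p, 1 ≤ p → Subsingleton (Ext.{w'} P (Abelian.image (G.map S.g)) p) := by
      intro p hp
      obtain ⟨p, rfl⟩ := Nat.exists_eq_add_of_le' hp
      exact ext_right (shortExact₁ G hS) P (p + 1) (Ext.subsingleton_of_injective _ _ _)
        (h0 (p + 2) (by omega))
    have hK : ∀ p, 2 ≤ p → Subsingleton (Ext.{w'} P (cokernel (G.map S.g)) p) := fun p hp =>
      subsingleton_ext_of_iso P e1.symm p (h p 0 hp)
    have hQ : ∀ p, 2 ≤ p → Subsingleton (Ext.{w'} P (G.obj S.X₃) p) := fun p hp =>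
      ext_mid (shortExact₂ G S) P p (him p (by omega)) (hK p hp)
    have key := ih S.X₃ hQ fun p q hp => by
      obtain ⟨e⟩ := nonempty_shiftIso G hS hI q
      exact subsingleton_ext_of_iso P e.symm p (h p (q + 1) hp)
    rw [← card_ext_shift hS (L.obj P) (n + 1) (Ext.subsingleton_of_injective _ _ _)
      (Ext.subsingleton_of_injective _ _ _), key]
    obtain ⟨e⟩ := nonempty_shiftIso G hS hI n
    rw [card_hom_congr P e]
    congr 1
    cases n with
    | zero =>
      change Nat.card (Ext.{w'} P (G.obj S.X₃) 1) = Nat.card (Ext.{w'} P ((G.rightDerived 1).obj S.X₁) 1)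
      rw [← card_ext_congr P e1 1]
      exact card_ext_right (shortExact₂ G S) P 1 (him 1 le_rfl) (him 2 (by omega))
    | succ n =>
      obtain ⟨e'⟩ := nonempty_shiftIso G hS hI n
      exact card_ext_congr P e' 1

end Groth.Agent.Lefpen.H712.TwoCol
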