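import Groth.Agent.Lefpen.H712.TwoCol
import Groth.Agent.EtpbcA.CdEtLeray

/-!
# The two-column Leray count for étale cohomology

If `H^p(Y, R^q f_* F) = 0` for `p ≥ 2` and all `q`, then
`|H^{n+1}(X, F)| = |H^1(Y, R^n f_* F)| * |H^0(Y, R^{n+1} f_* F)|`.
-/

set_option autoImplicit false
universe u

open CategoryTheory CategoryTheory.Limits CategoryTheory.Abelian AlgebraicGeometry Opposite

namespace Groth.Agent.Lefpen.H712.TwoColEt

open Groth.Agent.EtpbcA.CdEtLeray

theorem card_H_congr {X : Scheme.{u}} {F G : EtCoh.Ab X} (e : F ≅ G) (n : ℕ) :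
    Nat.card (EtCoh.H X F n) = Nat.card (EtCoh.H X G n) :=
  TwoCol.card_ext_congr _ e n

/-- **Two-column Leray count.** -/
theorem card_H_succ {X Y : Scheme.{u}} (f : X ⟶ Y) (F : EtCoh.Ab X) (n : ℕ)
    (h : ∀ p q, 2 ≤ p → Subsingleton (EtCoh.H Y ((EtCoh.Rpush f q).obj F) p)) :
    Nat.card (EtCoh.H X F (n + 1)) =
      Nat.card (EtCoh.H Y ((EtCoh.Rpush f n).obj F) 1) *
        Nat.card (EtCoh.H Y ((EtCoh.Rpush f (n + 1)).obj F) 0) := by
  have : PreservesFiniteLimits (EtCoh.push f) := by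
    have := (EtCoh.pullPushAdj f).rightAdjoint_preservesLimits
    infer_instance
  let e0 : (EtCoh.Rpush f 0).obj F ≅ (EtCoh.push f).obj F :=
    (EtCoh.push f).rightDerivedZeroIsoSelf.app F
  have key := TwoCol.card_ext_succ (EtCoh.pullPushAdj f) (ZZ Y) n F
    (fun p hp => H_subsingleton_of_iso e0 p (h p 0 hp)) (fun p q hp => h p (q + 1) hp)
  have h1 : Nat.card (EtCoh.H X F (n + 1)) =
      Nat.card (Ext.{u + 1} ((EtCoh.pull f).obj (ZZ Y)) F (n + 1)) :=
    Nat.card_congr
      { toFun := fun x => (Ext.mk₀ (pullZZ f).hom).comp x (zero_add _)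
        invFun := fun x => (Ext.mk₀ (pullZZ f).inv).comp x (zero_add _)
        left_inv := fun x => by
          beta_reduce
          rw [Ext.mk₀_comp_mk₀_assoc, (pullZZ f).inv_hom_id, Ext.mk₀_id_comp]
        right_inv := fun x => by
          beta_reduce
          rw [Ext.mk₀_comp_mk₀_assoc, (pullZZ f).hom_inv_id, Ext.mk₀_id_comp] }
  have h2 : Nat.card (EtCoh.H Y ((EtCoh.Rpush f (n + 1)).obj F) 0) =
      Nat.card (ZZ Y ⟶ ((EtCoh.push f).rightDerived (n + 1)).obj F) :=
    Nat.card_congr Ext.addEquiv₀.toEquiv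
  rw [h1, h2]
  refine key.trans (congrArg (· * _) ?_)
  cases n with
  | zero => exact (card_H_congr e0 1).symm
  | succ n => rfl

/-- degree zero -/
theorem card_H_zero {X Y : Scheme.{u}} (f : X ⟶ Y) (F : EtCoh.Ab X) :
    Nat.card (EtCoh.H X F 0) = Nat.card (EtCoh.H Y ((EtCoh.Rpush f 0).obj F) 0) := by
  have : PreservesFiniteLimits (EtCoh.push f) := by
    have := (EtCoh.pullPushAdj f).rightAdjoint_preservesLimits
    infer_instance
  let e0 : (EtCoh.Rpush f 0).obj F ≅ (EtCoh.push f).obj F :=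
    (EtCoh.push f).rightDerivedZeroIsoSelf.app F
  rw [card_H_congr e0 0]
  refine (Nat.card_congr Ext.addEquiv₀.toEquiv).trans (Eq.trans ?_
    (Nat.card_congr Ext.addEquiv₀.toEquiv).symm)
  refine Nat.card_congr (Equiv.trans ?_ ((EtCoh.pullPushAdj f).homEquiv (ZZ Y) F))
  exact { toFun := fun x => (pullZZ f).hom ≫ x
          invFun := fun x => (pullZZ f).inv ≫ x
          left_inv := fun x => by simp
          right_inv := fun x => by simp }

end Groth.Agent.Lefpen.H712.TwoColEt
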